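import Groth.Agent.Red23Lib.Rule.Main
import Groth.Agent.MultTransp18.Mono
import Mathlib.AlgebraicGeometry.ValuativeCriterion
import Mathlib.AlgebraicGeometry.Morphisms.Finite
import Mathlib.AlgebraicGeometry.Morphisms.Proper
import Mathlib.RingTheory.AdjoinRoot

/-!
# The root groups of a rank-one system in an affine group are closed
-/

set_option autoImplicit false
set_option linter.style.haveILetI false

universe u

open CategoryTheory CategoryTheory.Limits AlgebraicGeometry MonoidalCategory CartesianMonoidalCategory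
open Groth.Agent.GrpSchLib Groth.Agent.GrpSchLib.RankOne
open scoped MonObj

noncomputable section

namespace Groth.Agent.Red23Lib.Rule

variable {S : Scheme.{u}}

/-- A monomorphism with lifts on valuation rings is a closed immersion. -/
theorem isClosedImmersion_of_valuation {P Y : Over S} (f : P ⟶ Y) [Mono f] [IsAffineHom f.left]
    [LocallyOfFiniteType f.left]
    (h : ∀ (R K : Type u) [CommRing R] [IsDomain R] [ValuationRing R] [Field K] [Algebra R K] [IsFractionRing R K]
      (b : Spec (CommRingCat.of R) ⟶ S) (g : tst b ⟶ Y)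
      (x : tst (Spec.map (CommRingCat.ofHom (algebraMap R K)) ≫ b) ⟶ P),
      x ≫ f = sh (algebraMap R K) rfl ≫ g → ∃ y : tst b ⟶ P, y ≫ f = g) :
    IsClosedImmersion f.left := by
  haveI : Mono f.left := inferInstanceAs (Mono ((Over.forget S).map f))
  haveI : UniversallyClosed f.left := UniversallyClosed.of_valuativeCriterion _ fun sq => by
    let b : Spec (CommRingCat.of sq.R) ⟶ S := sq.i₂ ≫ Y.hom
    let g : tst b ⟶ Y := Over.homMk sq.i₂ rfl
    let x : tst (Spec.map (CommRingCat.ofHom (algebraMap sq.R sq.K)) ≫ b) ⟶ P := Over.homMk sq.i₁ (by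
      show sq.i₁ ≫ P.hom = _
      rw [← Over.w f, ← Category.assoc, sq.commSq.w, Category.assoc]
      rfl)
    obtain ⟨y, hy⟩ := h sq.R sq.K b g x (Over.OverMorphism.ext sq.commSq.w)
    have hy' : y.left ≫ f.left = sq.i₂ := congrArg CommaMorphism.left hy
    exact ⟨⟨⟨y.left, by rw [← cancel_mono f.left, Category.assoc, hy', sq.commSq.w], hy'⟩⟩⟩
  haveI : IsProper f.left := {}
  haveI : IsFinite f.left := by
    rw [IsFinite.eq_isProper_inf_isAffineHom]
    exact ⟨inferInstance, inferInstance⟩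
  exact (IsClosedImmersion.iff_isFinite_and_mono _).2 ⟨inferInstance, inferInstance⟩

/-- A point which is generically in a closed subscheme is in it. -/
theorem exists_lift_of_injective {P Y : Over S} (f : P ⟶ Y) [IsClosedImmersion f.left] {A C : Type u} [CommRing A]
    [CommRing C] {b : Spec (CommRingCat.of A) ⟶ S} {b' : Spec (CommRingCat.of C) ⟶ S} (φ : A →+* C)
    (hφ : Function.Injective φ) (h : Spec.map (CommRingCat.ofHom φ) ≫ b = b') (g : tst b ⟶ Y) (x : tst b' ⟶ P)
    (hx : x ≫ f = sh φ h ≫ g) : ∃ y : tst b ⟶ P, y ≫ f = g := by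
  let pr := pullback.fst g.left f.left
  haveI : IsClosedImmersion pr := inferInstanceAs (IsClosedImmersion (pullback.fst g.left f.left))
  haveI : IsAffine (tst b).left := inferInstanceAs (IsAffine (Spec (CommRingCat.of A)))
  haveI : IsAffine (pullback g.left f.left) := isAffine_of_isAffineHom pr
  let l : Spec (CommRingCat.of C) ⟶ pullback g.left f.left :=
    pullback.lift (Spec.map (CommRingCat.ofHom φ)) x.left (congrArg CommaMorphism.left hx).symm
  have hl : l ≫ pr = Spec.map (CommRingCat.ofHom φ) := pullback.lift_fst _ _ _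
  haveI : IsIso pr := IsClosedImmersion.isIso_of_injective_of_isAffine fun s t hst => by
    refine (sv b).injective (hφ ?_)
    have e := congrArg l.appTop hst
    rw [← GmPts.appTop_comp_apply, ← GmPts.appTop_comp_apply, hl] at e
    exact (sv_sh φ h s).symm.trans ((congrArg (sv b') e).trans (sv_sh φ h t))
  refine ⟨Over.homMk (inv pr ≫ pullback.snd g.left f.left) ?_, Over.OverMorphism.ext ?_⟩
  · show (inv pr ≫ pullback.snd g.left f.left) ≫ P.hom = b
    rw [← Over.w f, Category.assoc, ← Category.assoc (pullback.snd g.left f.left), ← pullback.condition]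
    show inv pr ≫ (pr ≫ g.left) ≫ Y.hom = b
    rw [Category.assoc, IsIso.inv_hom_id_assoc]
    exact Over.w g
  · show (inv pr ≫ pullback.snd g.left f.left) ≫ f.left = g.left
    rw [Category.assoc, ← pullback.condition, IsIso.inv_hom_id_assoc]

section Ext5

open Polynomial

/-- The polynomial `W ^ 5 - W - 1`. -/
abbrev quintic (A : Type u) [CommRing A] : A[X] := X ^ 5 - (X + 1)

theorem monic_quintic (A : Type u) [CommRing A] [Nontrivial A] : (quintic A).Monic :=
  monic_X_pow_sub (lt_of_le_of_lt (degree_add_le _ _) (max_lt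
    (by rw [degree_X]; norm_num) (lt_of_le_of_lt degree_one_le (by norm_num))))

theorem quintic_map {A B : Type u} [CommRing A] [CommRing B] (φ : A →+* B) :
    (quintic A).map φ = quintic B := by simp

/-- An extension with a unit `w` such that `1 - w ^ 4` is a unit, with a field point over the closed one. -/
theorem exists_quintic_ext (R K : Type u) [CommRing R] [IsDomain R] [IsLocalRing R] [Field K] [Algebra R K]
    [IsFractionRing R K] :
    ∃ (R' C k : Type u) (_ : CommRing R') (_ : CommRing C) (_ : Field k) (ε : R →+* R') (ι₀ : R' →+* C)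
      (κ : K →+* C) (ψ : R' →+* k) (w : R'ˣ) (e : R'ˣ), Function.Injective ι₀ ∧
        κ.comp (algebraMap R K) = ι₀.comp ε ∧ (∀ r ∈ IsLocalRing.maximalIdeal R, ψ (ε r) = 0) ∧
        (e : R') = 1 - (w : R') ^ 4 := by
  let k := AlgebraicClosure (IsLocalRing.ResidueField R)
  obtain ⟨wk, hwk⟩ := IsAlgClosed.exists_root (quintic k) (by
    rw [degree_eq_natDegree (monic_quintic k).ne_zero]
    have : (quintic k).natDegree = 5 := by
      rw [quintic, natDegree_sub_eq_left_of_natDegree_lt] <;> simp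
      exact lt_of_le_of_lt (natDegree_add_le _ _) (by simp)
    rw [this]; decide)
  let ρ : R →+* k := (algebraMap (IsLocalRing.ResidueField R) k).comp (IsLocalRing.residue R)
  let ι₀ : AdjoinRoot (quintic R) →+* AdjoinRoot (quintic K) :=
    AdjoinRoot.lift ((AdjoinRoot.of (quintic K)).comp (algebraMap R K)) (AdjoinRoot.root (quintic K)) (by
      rw [← eval₂_map, quintic_map]
      exact AdjoinRoot.eval₂_root (quintic K))
  let ψ : AdjoinRoot (quintic R) →+* k := AdjoinRoot.lift ρ wk (by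
    rw [← Polynomial.eval_map, quintic_map]
    exact hwk)
  have hι : ∀ q : R[X], ι₀ (AdjoinRoot.mk (quintic R) q) = AdjoinRoot.mk (quintic K) (q.map (algebraMap R K)) := by
    intro q
    induction q using Polynomial.induction_on' with
    | add p q hp hq => simp [hp, hq]
    | monomial n r => simp [ι₀, ← C_mul_X_pow_eq_monomial]
  have hinj : Function.Injective ι₀ := by
    rw [injective_iff_map_eq_zero]
    intro z hz
    obtain ⟨q, rfl⟩ := AdjoinRoot.mk_surjective z
    rw [hι, AdjoinRoot.mk_eq_zero, ← quintic_map (algebraMap R K),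
      Polynomial.map_dvd_map _ (IsFractionRing.injective R K) (monic_quintic R)] at hz
    exact AdjoinRoot.mk_eq_zero.2 hz
  let r := AdjoinRoot.root (quintic R)
  have hr : r * (r ^ 4 - 1) = 1 := by
    have h : AdjoinRoot.mk (quintic R) (quintic R) = 0 := AdjoinRoot.mk_self
    simp only [map_sub, map_pow, map_add, map_one, AdjoinRoot.mk_X] at h
    linear_combination h
  refine ⟨_, _, k, inferInstance, inferInstance, inferInstance, AdjoinRoot.of (quintic R), ι₀,
    AdjoinRoot.of (quintic K), ψ, Units.mkOfMulEqOne _ _ hr,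
    ⟨1 - r ^ 4, -r, by linear_combination hr, by linear_combination hr⟩, hinj, ?_, ?_, rfl⟩
  · exact RingHom.ext fun a => by simp [ι₀]
  · intro a ha
    have h0 : IsLocalRing.residue R a = 0 := (IsLocalRing.residue_eq_zero_iff _).2 ha
    show ψ (AdjoinRoot.of (quintic R) a) = 0
    simp [ψ, ρ, h0]

theorem exists_mem_maximal {R K : Type u} [CommRing R] [IsDomain R] [ValuationRing R] [Field K] [Algebra R K]
    [IsFractionRing R K] {x : K} (hx : ∀ r, algebraMap R K r ≠ x) :
    ∃ π ∈ IsLocalRing.maximalIdeal R, algebraMap R K π * x = 1 := by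
  rcases ValuationRing.isInteger_or_isInteger R x with ⟨r, hr⟩ | ⟨π, hπ⟩
  · exact absurd hr (hx r)
  · have hx0 : x ≠ 0 := fun h => hx 0 (by rw [h, map_zero])
    refine ⟨π, fun hu => ?_, by rw [hπ, inv_mul_cancel₀ hx0]⟩
    obtain ⟨u, rfl⟩ := hu
    refine hx ((u⁻¹ : Rˣ) : R) ?_
    rw [← inv_inv x, ← hπ, map_units_inv]

end Ext5

variable {G T' : Over S} [GrpObj G] [GrpObj T'] (D : RSys G T')

namespace RSys

variable (av : Red.Gm S ⟶ T') [IsMonHom av]

/-- The cocharacter on ring points. -/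
def avPt {A : Type u} [CommRing A] (b : Spec (CommRingCat.of A) ⟶ S) : Aˣ →* (tst b ⟶ T') :=
  MonoidHom.mk' (fun z => GmPts.ptOfUnit (Units.map (sv b).symm.toMonoidHom z) ≫ av) fun z z' => by
    rw [map_mul, GmPts.ptOfUnit_mul, MonObj.mul_comp]

theorem sh_avPt {A B : Type u} [CommRing A] [CommRing B] {b : Spec (CommRingCat.of A) ⟶ S}
    {b' : Spec (CommRingCat.of B) ⟶ S} (φ : A →+* B) (h : Spec.map (CommRingCat.ofHom φ) ≫ b = b') (z : Aˣ) :
    sh φ h ≫ avPt av b z = avPt av b' (Units.map φ.toMonoidHom z) := by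
  show sh φ h ≫ GmPts.ptOfUnit (Units.map (sv b).symm.toMonoidHom z) ≫ av =
    GmPts.ptOfUnit (Units.map (sv b').symm.toMonoidHom (Units.map φ.toMonoidHom z)) ≫ av
  rw [← Category.assoc, GmPts.ptOfUnit_comp]
  refine congrArg (fun v => GmPts.ptOfUnit v ≫ av) (Units.ext ?_)
  exact appTop_specHom (A := CommRingCat.of A) (B := CommRingCat.of B) φ h _

theorem cv_avPt (h2 : av ≫ D.α = (𝟙 (Red.Gm S)) ^ 2) {A : Type u} [CommRing A]
    (b : Spec (CommRingCat.of A) ⟶ S) (z : Aˣ) : D.cv b (avPt av b z) = z ^ 2 := by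
  refine Units.ext ?_
  show sv b (Red.gmFn ((GmPts.ptOfUnit (Units.map (sv b).symm.toMonoidHom z) ≫ av) ≫ D.α)) = _
  rw [Category.assoc, h2, MonObj.comp_pow, Category.comp_id, pow_two, GmPts.gmFn_mul, GmPts.gmFn_ptOfUnit, map_mul,
    pow_two, Units.val_mul]
  exact congrArg (fun v => v * v) ((sv b).apply_symm_apply (z : A))

/-- The rule for a given cocharacter. -/
def Rule : Prop :=
  ∀ (A : Type u) [CommRing A] (b : Spec (CommRingCat.of A) ⟶ S) (z : Aˣ) (x y : A),
    (z : A) = 1 + D.der b * x * y →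
    D.P b x * D.M b y = D.M b (((z⁻¹ : Aˣ) : A) * y) * (avPt av b z ≫ D.i) * D.P b (((z⁻¹ : Aˣ) : A) * x)

/-- An element which inverts the cocharacter and fixes a root group gives `w ^ 4 = 1`. -/
theorem pow_four_eq_one (h2 : av ≫ D.α = (𝟙 (Red.Gm S)) ^ 2) {A : Type u} [CommRing A]
    (b : Spec (CommRingCat.of A) ⟶ S) (w : Aˣ) (g : tst b ⟶ G)
    (hg : (avPt av b w ≫ D.i) * g * (avPt av b w ≫ D.i) = g)
    (hc : (g * D.P b 1 = D.P b 1 * g ∧ g * D.P b ((w ^ 2 : Aˣ) : A) = D.P b ((w ^ 2 : Aˣ) : A) * g) ∨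
      (g * D.M b 1 = D.M b 1 * g ∧
        g * D.M b (((w ^ 2)⁻¹ : Aˣ) : A) = D.M b (((w ^ 2)⁻¹ : Aˣ) : A) * g)) : (w : A) ^ 4 = 1 := by
  set s := avPt av b w ≫ D.i with hs
  have e : g * s = s⁻¹ * g := by rw [eq_inv_mul_iff_mul_eq, ← mul_assoc, hg]
  have e' : s⁻¹ * g⁻¹ = g⁻¹ * s := by
    have := congrArg (·⁻¹) e
    simpa [mul_inv_rev] using this
  have hsinv : s⁻¹ = ((avPt av b w)⁻¹) ≫ D.i := by rw [hs, GrpObj.inv_comp]
  have hcv := D.cv_avPt av h2 b w
  rcases hc with ⟨hc, hc'⟩ | ⟨hc, hc'⟩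
  · have h1 : g * (s * D.P b 1 * s⁻¹) * g⁻¹ = s⁻¹ * D.P b 1 * s := by
      calc _ = (g * s) * D.P b 1 * (s⁻¹ * g⁻¹) := by group
        _ = s⁻¹ * (g * D.P b 1) * g⁻¹ * s := by rw [e, e']; group
        _ = _ := by rw [hc]; group
    have ha : s * D.P b 1 * s⁻¹ = D.P b ((w ^ 2 : Aˣ) : A) := by rw [hs, D.conj_P, hcv, mul_one]
    have hb : s⁻¹ * D.P b 1 * s = D.P b (((w ^ 2)⁻¹ : Aˣ) : A) := by
      have := D.conj_P b (avPt av b w)⁻¹ 1
      rw [← hsinv, inv_inv, map_inv, hcv, mul_one] at this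
      exact this
    rw [ha, hb, hc', mul_inv_cancel_right] at h1
    have h3 := gp_injective b ((D.ext b (a := 0) (a' := 0) (t := 1) (t' := 1)
      (d := ((w ^ 2 : Aˣ) : A)) (d' := (((w ^ 2)⁻¹ : Aˣ) : A)) (by rw [h1])).2.2 ▸ rfl :
        gp b ((w ^ 2 : Aˣ) : A) = gp b (((w ^ 2)⁻¹ : Aˣ) : A))
    have h4 := congrArg (((w ^ 2 : Aˣ) : A) * ·) h3
    simp only [Units.mul_inv] at h4
    simp only [Units.val_pow_eq_pow_val] at h4
    linear_combination h4
  · have h1 : g * (s * D.M b 1 * s⁻¹) * g⁻¹ = s⁻¹ * D.M b 1 * s := by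
      calc _ = (g * s) * D.M b 1 * (s⁻¹ * g⁻¹) := by group
        _ = s⁻¹ * (g * D.M b 1) * g⁻¹ * s := by rw [e, e']; group
        _ = _ := by rw [hc]; group
    have ha : s * D.M b 1 * s⁻¹ = D.M b (((w ^ 2)⁻¹ : Aˣ) : A) := by rw [hs, D.conj_M, hcv, mul_one]
    have hb : s⁻¹ * D.M b 1 * s = D.M b ((w ^ 2 : Aˣ) : A) := by
      have := D.conj_M b (avPt av b w)⁻¹ 1
      rw [← hsinv, inv_inv, map_inv, hcv, inv_inv, mul_one] at this
      exact this
    rw [ha, hb, hc', mul_inv_cancel_right] at h1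
    have h3 : (((w ^ 2)⁻¹ : Aˣ) : A) = ((w ^ 2 : Aˣ) : A) := (D.ext b (t := 1) (t' := 1) (d := 0) (d' := 0)
      (a := (((w ^ 2)⁻¹ : Aˣ) : A)) (a' := ((w ^ 2 : Aˣ) : A)) (by rw [h1])).1
    have h4 := congrArg (((w ^ 2 : Aˣ) : A) * ·) h3
    simp only [Units.mul_inv] at h4
    simp only [Units.val_pow_eq_pow_val] at h4
    linear_combination -h4

variable [IsAffineHom G.hom] (hnc : D.NonComm) (h2 : av ≫ D.α = (𝟙 (Red.Gm S)) ^ 2) (hrule : D.Rule av)

variable {R K : Type u} [CommRing R] [IsDomain R] [ValuationRing R] [Field K] [Algebra R K] [IsFractionRing R K]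
  {b : Spec (CommRingCat.of R) ⟶ S}

include hnc h2 hrule in
set_option maxHeartbeats 2000000 in
/-- A point with integral image comes from an integral parameter. -/
theorem exists_integral (g : tst b ⟶ G) (x : K) (side : Bool)
    (hx : (if side then D.P (Spec.map (CommRingCat.ofHom (algebraMap R K)) ≫ b) x
      else D.M (Spec.map (CommRingCat.ofHom (algebraMap R K)) ≫ b) x) = sh (algebraMap R K) rfl ≫ g) :
    ∃ r : R, algebraMap R K r = x := by
  by_contra! hno
  obtain ⟨π, hπm, hπ⟩ := exists_mem_maximal hno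
  obtain ⟨R', C, k, _, _, _, ε, ι₀, κ, ψ, w, e, hinj, hcomm, hm, he⟩ := exists_quintic_ext R K
  let b' : Spec (CommRingCat.of R') ⟶ S := Spec.map (CommRingCat.ofHom ε) ≫ b
  let bC : Spec (CommRingCat.of C) ⟶ S := Spec.map (CommRingCat.ofHom ι₀) ≫ b'
  let bk : Spec (CommRingCat.of k) ⟶ S := Spec.map (CommRingCat.ofHom ψ) ≫ b'
  have hbC : Spec.map (CommRingCat.ofHom κ) ≫ (Spec.map (CommRingCat.ofHom (algebraMap R K)) ≫ b) = bC := by
    simp only [bC, b', ← Category.assoc, ← Spec.map_comp, ← CommRingCat.ofHom_comp, hcomm]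
  set g' := sh ε (b' := b') rfl ≫ g with hg'
  set gC := sh ι₀ (b' := bC) rfl ≫ g' with hgC
  have hgx : sh κ hbC ≫ (sh (algebraMap R K) rfl ≫ g) = gC := by
    rw [hgC, hg', ← Category.assoc, ← Category.assoc]
    congr 1
    ext1
    simp [specHom, ← Spec.map_comp, ← CommRingCat.ofHom_comp, hcomm]
  set X := κ x with hX
  have hπX : ι₀ (ε π) * X = 1 := by
    rw [← RingHom.comp_apply, ← hcomm, RingHom.comp_apply, hX, ← map_mul, hπ, map_one]
  have hi : ∀ (p p' : tst b' ⟶ G), sh ι₀ (b' := bC) rfl ≫ p = sh ι₀ (b' := bC) rfl ≫ p' → p = p' := fun p p' h =>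
    RankOne.eq_of_injective (A := CommRingCat.of R') (B := CommRingCat.of C) ι₀ rfl hinj h
  have hψπ : ψ (ε π) = 0 := hm π hπm
  -- the parameter `z`
  let z : R'ˣ := if side then (w ^ 2)⁻¹ else w ^ 2
  let y : R' := ((D.aU hnc b')⁻¹ : R'ˣ) * (ε π * ((z : R') - 1))
  have hz : (Units.map ι₀.toMonoidHom z : C) = 1 + D.der bC * X * ι₀ y := by
    show ι₀ (z : R') = _
    have e1 : D.der bC * ι₀ (((D.aU hnc b')⁻¹ : R'ˣ) : R') = 1 := by
      rw [← D.der_map ι₀ rfl, ← map_mul, ← D.val_aU hnc, Units.mul_inv, map_one]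
    simp only [y, map_mul, map_sub, map_one]
    linear_combination (-(X * ι₀ (ε π) * (ι₀ (z : R') - 1))) * e1 - (ι₀ (z : R') - 1) * hπX
  set s' := avPt av b' w ≫ D.i with hs'
  have hsC : sh ι₀ (b' := bC) rfl ≫ s' = avPt av bC (Units.map ι₀.toMonoidHom w) ≫ D.i := by
    rw [hs', ← Category.assoc, sh_avPt]
  have hzC : sh ι₀ (b' := bC) rfl ≫ (avPt av b' z ≫ D.i) = avPt av bC (Units.map ι₀.toMonoidHom z) ≫ D.i := by
    rw [← Category.assoc, sh_avPt]
  have hbkψ : sh ψ (b' := bk) rfl ≫ s' = avPt av bk (Units.map ψ.toMonoidHom w) ≫ D.i := by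
    rw [hs', ← Category.assoc, sh_avPt]
  have hbad : ((Units.map ψ.toMonoidHom w : kˣ) : k) ^ 4 ≠ 1 := fun h4 => by
    have := (e.isUnit.map ψ).ne_zero
    rw [he, map_sub, map_one, map_pow] at this
    exact this (by rw [show ψ (w : R') = ((Units.map ψ.toMonoidHom w : kˣ) : k) from rfl, h4, sub_self])
  have hy0 : ψ y = 0 := by simp [y, hψπ]
  refine hbad (D.pow_four_eq_one av h2 bk _ (sh ψ (b' := bk) rfl ≫ g') ?_ ?_)
  · rw [← hbkψ]
    cases side with
    | true =>
      have hgX : gC = D.P bC X := by rw [← hgx, ← hx, if_pos rfl, D.sh_P]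
      have key : g' * D.M b' y = D.M b' (((z⁻¹ : R'ˣ) : R') * y) * (avPt av b' z ≫ D.i) * (s' * g' * s'⁻¹) := by
        refine hi _ _ ?_
        simp only [MonObj.comp_mul, GrpObj.comp_inv, D.sh_M, hzC, hsC, ← hgC, hgX]
        rw [hrule C bC _ _ _ hz, D.conj_P, D.cv_avPt av h2]
        simp [z]
      have h := congrArg (sh ψ (b := b') (b' := bk) rfl ≫ ·) key
      simp only [MonObj.comp_mul, GrpObj.comp_inv, D.sh_M, hy0, map_mul, mul_zero, D.M_zero, mul_one, one_mul] at h
      rw [← Category.assoc _ (avPt av b' z) D.i, sh_avPt] at h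
      rw [show Units.map ψ.toMonoidHom z = (Units.map ψ.toMonoidHom w)⁻¹ * (Units.map ψ.toMonoidHom w)⁻¹ by
        simp [z, pow_two, map_inv, map_mul]] at h
      rw [map_mul, MonObj.mul_comp, map_inv, GrpObj.inv_comp, ← hbkψ] at h
      generalize sh ψ (b' := bk) rfl ≫ s' = sk at h ⊢
      generalize sh ψ (b' := bk) rfl ≫ g' = gk at h ⊢
      calc sk * gk * sk = sk * (sk⁻¹ * sk⁻¹ * (sk * gk * sk⁻¹)) * sk := by rw [← h]
        _ = gk := by group
    | false =>
      have hgX : gC = D.M bC X := by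
        rw [← hgx, ← hx, if_neg (by simp), D.sh_M]
      have hz' : (Units.map ι₀.toMonoidHom z : C) = 1 + D.der bC * ι₀ y * X := by rw [hz]; ring
      have key : D.P b' y * g' = (s' * g' * s'⁻¹) * (avPt av b' z ≫ D.i) * D.P b' (((z⁻¹ : R'ˣ) : R') * y) := by
        refine hi _ _ ?_
        simp only [MonObj.comp_mul, GrpObj.comp_inv, D.sh_P, hzC, hsC, ← hgC, hgX]
        rw [hrule C bC _ _ _ hz', D.conj_M, D.cv_avPt av h2]
        simp [z]
      have h := congrArg (sh ψ (b := b') (b' := bk) rfl ≫ ·) key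
      simp only [MonObj.comp_mul, GrpObj.comp_inv, D.sh_P, hy0, map_mul, mul_zero, D.P_zero, mul_one, one_mul] at h
      rw [← Category.assoc _ (avPt av b' z) D.i, sh_avPt] at h
      rw [show Units.map ψ.toMonoidHom z = Units.map ψ.toMonoidHom w * Units.map ψ.toMonoidHom w by
        simp [z, pow_two, map_mul]] at h
      rw [map_mul, MonObj.mul_comp, ← hbkψ] at h
      generalize sh ψ (b' := bk) rfl ≫ s' = sk at h ⊢
      generalize sh ψ (b' := bk) rfl ≫ g' = gk at h ⊢
      calc sk * gk * sk = sk * gk * sk⁻¹ * (sk * sk) := by group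
        _ = gk := h.symm
  · -- the root groups are commutative
    cases side with
    | true =>
      left
      have h1 : ∀ u : R', g' * D.P b' u = D.P b' u * g' := fun u => by
        refine hi _ _ ?_
        simp only [MonObj.comp_mul, D.sh_P, ← hgC, show gC = D.P bC X by rw [← hgx, ← hx, if_pos rfl, D.sh_P]]
        rw [← D.P_add, ← D.P_add, add_comm]
      have hk : ∀ u : R', sh ψ (b' := bk) rfl ≫ g' * D.P bk (ψ u) = D.P bk (ψ u) * sh ψ (b' := bk) rfl ≫ g' := fun u => by
        have := congrArg (sh ψ (b := b') (b' := bk) rfl ≫ ·) (h1 u)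
        simpa only [MonObj.comp_mul, D.sh_P] using this
      refine ⟨?_, ?_⟩
      · have h2 := hk 1
        rw [map_one] at h2
        exact h2
      · have h2 := hk ((w ^ 2 : R'ˣ) : R')
        rw [show ψ ((w ^ 2 : R'ˣ) : R') = (((Units.map ψ.toMonoidHom w) ^ 2 : kˣ) : k) by rw [← map_pow]; rfl] at h2
        exact h2
    | false =>
      right
      have h1 : ∀ u : R', g' * D.M b' u = D.M b' u * g' := fun u => by
        refine hi _ _ ?_
        simp only [MonObj.comp_mul, D.sh_M, ← hgC, show gC = D.M bC X by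
          rw [← hgx, ← hx, if_neg (by simp), D.sh_M]]
        rw [← D.M_add, ← D.M_add, add_comm]
      have hk : ∀ u : R', sh ψ (b' := bk) rfl ≫ g' * D.M bk (ψ u) = D.M bk (ψ u) * sh ψ (b' := bk) rfl ≫ g' := fun u => by
        have := congrArg (sh ψ (b := b') (b' := bk) rfl ≫ ·) (h1 u)
        simpa only [MonObj.comp_mul, D.sh_M] using this
      refine ⟨?_, ?_⟩
      · have h2 := hk 1
        rw [map_one] at h2
        exact h2
      · have h2 := hk (((w ^ 2)⁻¹ : R'ˣ) : R')
        rw [show ψ (((w ^ 2)⁻¹ : R'ˣ) : R') = ((((Units.map ψ.toMonoidHom w) ^ 2)⁻¹ : kˣ) : k) by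
          rw [← map_pow, ← map_inv]; rfl] at h2
        exact h2

end RSys

end Groth.Agent.Red23Lib.Rule
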