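import Groth.Agent.Red23Lib.Rule.Closed

/-!
# In a rank-one system of a reductive group, `U` and `T·U` are closed
-/

set_option autoImplicit false
set_option linter.style.haveILetI false

universe u

open CategoryTheory CategoryTheory.Limits AlgebraicGeometry MonoidalCategory CartesianMonoidalCategory
open Groth.Agent.GrpSchLib Groth.Agent.GrpSchLib.RankOne
open scoped MonObj

noncomputable section

namespace Groth.Agent.Red23Lib.Rule

variable {S : Scheme.{u}} {G T' : Over S} [GrpObj G] [GrpObj T'] (D : RSys G T')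

theorem affine_lft_to_group {P : Over S} (f : P ⟶ G) [IsAffineHom P.hom] [LocallyOfFiniteType P.hom]
    [IsAffineHom G.hom] : IsAffineHom f.left ∧ LocallyOfFiniteType f.left := by
  haveI : IsAffineHom (f.left ≫ G.hom) := by rw [Over.w]; infer_instance
  haveI : LocallyOfFiniteType (f.left ≫ G.hom) := by rw [Over.w]; infer_instance
  exact ⟨IsAffineHom.of_comp f.left G.hom, locallyOfFiniteType_of_comp f.left G.hom⟩

set_option backward.isDefEq.respectTransparency.types false in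
theorem aff_snd {X Y Z : Scheme.{u}} (f : X ⟶ Z) (g : Y ⟶ Z) [hf : IsAffineHom f] : IsAffineHom (pullback.snd f g) :=
  MorphismProperty.pullback_snd (P := @IsAffineHom) f g hf

set_option backward.isDefEq.respectTransparency.types false in
theorem aff_fst {X Y Z : Scheme.{u}} (f : X ⟶ Z) (g : Y ⟶ Z) [hg : IsAffineHom g] : IsAffineHom (pullback.fst f g) :=
  MorphismProperty.pullback_fst (P := @IsAffineHom) f g hg

theorem lft_ga (S : Scheme.{u}) : LocallyOfFiniteType (Red.Ga S).hom :=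
  haveI := smooth_ga S
  inferInstance

theorem affine_ga (S : Scheme.{u}) : IsAffineHom (Red.Ga S).hom :=
  haveI : IsAffineHom Red.GaZ.{u}.hom := inferInstanceAs (IsAffineHom (Spec.map _))
  aff_snd Red.GaZ.hom _

theorem gp_add_comp {A : Type u} [CommRing A] (b : Spec (CommRingCat.of A) ⟶ S) (p : Red.Ga S ⟶ G) [IsMonHom p]
    (x y : A) : gp b (x + y) ≫ p = (gp b x ≫ p) * (gp b y ≫ p) := by rw [gp_mul, MonObj.mul_comp]

theorem gp_zero_comp {A : Type u} [CommRing A] (b : Spec (CommRingCat.of A) ⟶ S) (p : Red.Ga S ⟶ G) [IsMonHom p] :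
    gp b (0 : A) ≫ p = 1 := by rw [gp_zero, MonObj.one_comp]

namespace RSys

variable (av : Red.Gm S ⟶ T') [IsMonHom av] [IsAffineHom G.hom] (hnc : D.NonComm)
  (h2 : av ≫ D.α = (𝟙 (Red.Gm S)) ^ 2) (hrule : D.Rule av)

include hnc h2 hrule in
theorem isClosedImmersion_pp [Mono D.pp] : IsClosedImmersion D.pp.left := by
  haveI := affine_ga S; haveI := lft_ga S
  haveI := (affine_lft_to_group D.pp).1; haveI := (affine_lft_to_group D.pp).2
  refine isClosedImmersion_of_valuation D.pp fun R K _ _ _ _ _ _ b g x hx => ?_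
  have hx' : D.P (Spec.map (CommRingCat.ofHom (algebraMap R K)) ≫ b) (sv _ (Red.gaFn x)) =
      sh (algebraMap R K) rfl ≫ g := by rw [P, gp_sv]; exact hx
  obtain ⟨r, hr⟩ := D.exists_integral av hnc h2 hrule g _ true (by rw [if_pos rfl]; exact hx')
  refine ⟨gp b r, RankOne.eq_of_injective (A := CommRingCat.of R) (B := CommRingCat.of K) (algebraMap R K)
    (b' := Spec.map (CommRingCat.ofHom (algebraMap R K)) ≫ b) rfl (IsFractionRing.injective R K) ?_⟩
  rw [show gp b r ≫ D.pp = D.P b r from rfl, ← hx', ← hr]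
  exact D.sh_P _ _ _

include hnc h2 hrule in
theorem isClosedImmersion_pm [Mono D.pm] : IsClosedImmersion D.pm.left := by
  haveI := affine_ga S; haveI := lft_ga S
  haveI := (affine_lft_to_group D.pm).1; haveI := (affine_lft_to_group D.pm).2
  refine isClosedImmersion_of_valuation D.pm fun R K _ _ _ _ _ _ b g x hx => ?_
  have hx' : D.M (Spec.map (CommRingCat.ofHom (algebraMap R K)) ≫ b) (sv _ (Red.gaFn x)) =
      sh (algebraMap R K) rfl ≫ g := by rw [M, gp_sv]; exact hx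
  obtain ⟨r, hr⟩ := D.exists_integral av hnc h2 hrule g _ false (by rw [if_neg (by simp)]; exact hx')
  refine ⟨gp b r, RankOne.eq_of_injective (A := CommRingCat.of R) (B := CommRingCat.of K) (algebraMap R K)
    (b' := Spec.map (CommRingCat.ofHom (algebraMap R K)) ≫ b) rfl (IsFractionRing.injective R K) ?_⟩
  rw [show gp b r ≫ D.pm = D.M b r from rfl, ← hx', ← hr]
  exact D.sh_M _ _ _

/-- The product of the torus and a closed root group is closed. -/
theorem isClosedImmersion_mul [Mono D.i] (p : Red.Ga S ⟶ G) [IsMonHom p] [IsClosedImmersion p.left]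
    [Mono ((D.i ⊗ₘ p) ≫ μ[G])]
    (c : ∀ (A : Type u) [CommRing A] (b : Spec (CommRingCat.of A) ⟶ S), (tst b ⟶ T') → Aˣ)
    (hconj : ∀ (A : Type u) [CommRing A] (b : Spec (CommRingCat.of A) ⟶ S) (t : tst b ⟶ T') (x : A),
      (t ≫ D.i) * (gp b x ≫ p) * (t ≫ D.i)⁻¹ = gp b ((c A b t : A) * x) ≫ p)
    (hsq : (∀ (A : Type u) [CommRing A] (b : Spec (CommRingCat.of A) ⟶ S) (w : Aˣ), c A b (avPt av b w) = w ^ 2) ∨
      ∀ (A : Type u) [CommRing A] (b : Spec (CommRingCat.of A) ⟶ S) (w : Aˣ), c A b (avPt av b w) = (w ^ 2)⁻¹) :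
    IsClosedImmersion ((D.i ⊗ₘ p) ≫ μ[G]).left := by
  haveI := affine_ga S; haveI := lft_ga S
  haveI := D.isAffineHom_T
  haveI := MultTransp18.lfp_multTypeFT (isMultTypeFT_of_isTorus D.hT)
  haveI : IsAffineHom (pullback.fst T'.hom (Red.Ga S).hom) := aff_fst T'.hom (Red.Ga S).hom
  haveI : IsAffineHom (T' ⊗ Red.Ga S).hom := inferInstanceAs (IsAffineHom (pullback.fst _ _ ≫ T'.hom))
  haveI : LocallyOfFiniteType (T' ⊗ Red.Ga S).hom :=
    inferInstanceAs (LocallyOfFiniteType (pullback.fst _ _ ≫ T'.hom))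
  haveI := (affine_lft_to_group ((D.i ⊗ₘ p) ≫ μ[G])).1
  haveI := (affine_lft_to_group ((D.i ⊗ₘ p) ≫ μ[G])).2
  haveI : IsClosedImmersion D.i.left :=
    MultTransp18.isClosedImmersion_of_mono (isMultTypeFT_of_isTorus D.hT) inferInstance D.i
  refine isClosedImmersion_of_valuation ((D.i ⊗ₘ p) ≫ μ[G]) fun R K _ _ _ _ _ _ b g x hx => ?_
  have hmul : ∀ (A : Type u) [CommRing A] (b : Spec (CommRingCat.of A) ⟶ S) (t : tst b ⟶ T') (v : A),
      lift t (gp b v) ≫ ((D.i ⊗ₘ p) ≫ μ[G]) = (t ≫ D.i) * (gp b v ≫ p) := fun A _ b t v => by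
    rw [← Category.assoc, lift_map]; rfl
  -- `g` is `p e * t` at the generic point
  suffices h0 : ∀ (bK : Spec (CommRingCat.of K) ⟶ S) (hK : Spec.map (CommRingCat.ofHom (algebraMap R K)) ≫ b = bK)
      (tK : tst bK ⟶ T') (xK : K), (tK ≫ D.i) * (gp bK xK ≫ p) = sh (algebraMap R K) hK ≫ g →
      ∃ y : tst b ⟶ T' ⊗ Red.Ga S, y ≫ ((D.i ⊗ₘ p) ≫ μ[G]) = g by
    refine h0 _ rfl (x ≫ fst _ _) (sv _ (Red.gaFn (x ≫ snd _ _))) (Eq.trans ?_ hx)
    rw [← hmul, gp_sv, lift_comp_fst_snd]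
  clear hx x
  intro bK hK tK xK hx
  set e : K := (c K bK tK : K) * xK with he
  have hge : sh (algebraMap R K) hK ≫ g = (gp bK e ≫ p) * (tK ≫ D.i) := by
    rw [← hx, he, ← hconj, inv_mul_cancel_right]
  -- `e` is integral
  obtain ⟨r, hr⟩ : ∃ r, algebraMap R K r = e := by
    by_contra! hno
    obtain ⟨π, hπm, hπ⟩ := exists_mem_maximal hno
    obtain ⟨R', C, k, _, _, _, ε, ι₀, κ, ψ, w, e4, hinj, hcomm, hm, he4⟩ := exists_quintic_ext R K
    obtain ⟨b', hb'⟩ : ∃ b', Spec.map (CommRingCat.ofHom ε) ≫ b = b' := ⟨_, rfl⟩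
    obtain ⟨bC, hbC'⟩ : ∃ bC, Spec.map (CommRingCat.ofHom ι₀) ≫ b' = bC := ⟨_, rfl⟩
    have hbC : Spec.map (CommRingCat.ofHom κ) ≫ bK = bC := by
      rw [← hbC', ← hb', ← hK, ← Category.assoc, ← Category.assoc, ← Spec.map_comp, ← Spec.map_comp,
        ← CommRingCat.ofHom_comp, ← CommRingCat.ofHom_comp, hcomm]
    have hgC : sh ι₀ hbC' ≫ sh ε hb' ≫ g = (gp bC (κ e) ≫ p) * ((sh κ hbC ≫ tK) ≫ D.i) := by
      rw [Category.assoc, ← sh_gp κ hbC, Category.assoc, ← MonObj.comp_mul, ← hge, ← Category.assoc, ← Category.assoc]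
      refine congrArg (· ≫ g) (Over.OverMorphism.ext ?_)
      simp [specHom, ← Spec.map_comp, ← CommRingCat.ofHom_comp, hcomm]
    obtain ⟨z, hzC, hzu⟩ : ∃ z : R'ˣ, c C bC (avPt av bC (Units.map ι₀.toMonoidHom w)) = Units.map ι₀.toMonoidHom z ∧
        IsUnit (1 - (z : R')) := by
      have h4 : IsUnit (1 - (w : R') ^ 2) :=
        isUnit_of_mul_isUnit_left (y := 1 + (w : R') ^ 2) (by
          rw [show (1 - (w : R') ^ 2) * (1 + (w : R') ^ 2) = 1 - (w : R') ^ 4 by ring, ← he4]; exact e4.isUnit)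
      rcases hsq with h | h
      · exact ⟨w ^ 2, by rw [h, map_pow], by rwa [Units.val_pow_eq_pow_val]⟩
      · refine ⟨(w ^ 2)⁻¹, by rw [h, map_inv, map_pow], ?_⟩
        have hw : (((w ^ 2)⁻¹ : R'ˣ) : R') * (w : R') ^ 2 = 1 := by
          rw [← Units.val_pow_eq_pow_val]; exact (w ^ 2).inv_mul
        rw [show 1 - (((w ^ 2)⁻¹ : R'ˣ) : R') = -((((w ^ 2)⁻¹ : R'ˣ) : R') * (1 - (w : R') ^ 2)) by
          linear_combination (-1 : R') * hw]
        exact ((Units.isUnit _).mul h4).neg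
    set sC := avPt av bC (Units.map ι₀.toMonoidHom w) ≫ D.i with hsC
    have hcm : ((sh κ hbC ≫ tK) ≫ D.i) * sC = sC * ((sh κ hbC ≫ tK) ≫ D.i) := by
      rw [hsC, ← MonObj.mul_comp, torus_mul_comm D.hT, MonObj.mul_comp]
    have hneg : ∀ v, (gp bC v ≫ p)⁻¹ = gp bC (-v) ≫ p := fun v => inv_eq_of_mul_eq_one_right (by
      rw [← gp_add_comp bC p, add_neg_cancel, gp_zero_comp bC p])
    have hcom : (sh ι₀ hbC' ≫ sh ε hb' ≫ g) * sC * (sh ι₀ hbC' ≫ sh ε hb' ≫ g)⁻¹ * sC⁻¹ =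
        gp bC (κ e * ι₀ (1 - (z : R'))) ≫ p := by
      rw [hgC]
      generalize ((sh κ hbC ≫ tK) ≫ D.i) = t at hcm ⊢
      calc (gp bC (κ e) ≫ p) * t * sC * ((gp bC (κ e) ≫ p) * t)⁻¹ * sC⁻¹
          = (gp bC (κ e) ≫ p) * (t * sC * t⁻¹) * (gp bC (κ e) ≫ p)⁻¹ * sC⁻¹ := by group
        _ = (gp bC (κ e) ≫ p) * (sC * (gp bC (κ e) ≫ p)⁻¹ * sC⁻¹) := by rw [hcm]; group
        _ = _ := by
          rw [hneg, hsC, hconj, ← gp_add_comp bC p, hzC]
          refine congrArg (fun v => gp bC v ≫ p) ?_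
          rw [map_sub, map_one]
          show κ e + ι₀ (z : R') * -κ e = _
          ring
    obtain ⟨y, hy⟩ := exists_lift_of_injective p (b := b') (b' := bC) ι₀ hinj hbC'
      ((sh ε hb' ≫ g) * (avPt av b' w ≫ D.i) * (sh ε hb' ≫ g)⁻¹ * (avPt av b' w ≫ D.i)⁻¹)
      (gp bC (κ e * ι₀ (1 - (z : R')))) (by
        rw [MonObj.comp_mul, MonObj.comp_mul, MonObj.comp_mul, GrpObj.comp_inv, GrpObj.comp_inv,
          ← Category.assoc _ (avPt av b' w) D.i, sh_avPt av ι₀ hbC' w, ← hsC]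
        exact hcom.symm)
    obtain ⟨v, hv⟩ : ∃ v : R', ι₀ v = κ e * ι₀ (1 - (z : R')) := by
      refine ⟨sv b' (Red.gaFn y), gp_injective bC ?_⟩
      haveI : Mono p := (Over.forget S).mono_of_mono_map (inferInstanceAs (Mono p.left))
      rw [← cancel_mono p, ← sh_gp ι₀ hbC', gp_sv, Category.assoc, hy, MonObj.comp_mul, MonObj.comp_mul,
        MonObj.comp_mul, GrpObj.comp_inv, GrpObj.comp_inv,
        ← Category.assoc _ (avPt av b' w) D.i, sh_avPt av ι₀ hbC' w, ← hsC, hcom]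
    have h1 : ε π * v = 1 - (z : R') := hinj (by
      rw [map_mul, hv, ← RingHom.comp_apply, ← hcomm, RingHom.comp_apply, ← mul_assoc, ← map_mul, hπ, map_one, one_mul])
    have h2' := hzu.map ψ
    rw [← h1, map_mul, hm π hπm, zero_mul] at h2'
    exact not_isUnit_zero h2'
  -- the torus part is integral
  obtain ⟨τ, hτ⟩ := exists_lift_of_injective D.i (b := b) (b' := bK) (algebraMap R K) (IsFractionRing.injective R K)
    hK ((gp b r ≫ p)⁻¹ * g) tK (by
      rw [MonObj.comp_mul, GrpObj.comp_inv, ← Category.assoc, sh_gp, hr, hge, inv_mul_cancel_left])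
  refine ⟨lift τ (gp b (((c R b τ)⁻¹ : Rˣ) * r)), ?_⟩
  rw [hmul]
  have h := hconj R b τ (((c R b τ)⁻¹ : Rˣ) * r)
  rw [Units.mul_inv_cancel_left, mul_inv_eq_iff_eq_mul] at h
  rw [h, hτ, mul_inv_cancel_left]

end RSys

end Groth.Agent.Red23Lib.Rule
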