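import Groth.Agent.GrpSchLib.RankOneScale
import Groth.Agent.GrpSchLib.RankOneNonComm
import Groth.Agent.Sga3xB.MultBasic
import Mathlib.Algebra.DualNumber
import Mathlib.Algebra.Polynomial.Laurent

/-!
# The rank-one system on affine tests: coordinates and the constant `a`
-/

set_option autoImplicit false
set_option linter.style.haveILetI false

universe u

open CategoryTheory CategoryTheory.Limits AlgebraicGeometry MonoidalCategory CartesianMonoidalCategory
open Groth.Agent.GrpSchLib Groth.Agent.GrpSchLib.RankOne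
open scoped MonObj

noncomputable section

namespace Groth.Agent.Red23Lib.Rule

variable {S : Scheme.{u}}

/-- The data of the theorem: a torus, a character and two root groups with an open cell. -/
structure RSys (G T : Over S) [GrpObj G] [GrpObj T] where
  i : T ⟶ G
  α : T ⟶ Red.Gm S
  pp : Red.Ga S ⟶ G
  pm : Red.Ga S ⟶ G
  [hi : IsMonHom i]
  [hαm : IsMonHom α]
  [hppm : IsMonHom pp]
  [hpmm : IsMonHom pm]
  hT : Red.IsTorus T
  hα : ∀ s : S, (Over.pullback (Red.geomPt s)).map α ≠ 1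
  hpp : ∀ (X : Over S) (t : X ⟶ T) (x : X ⟶ Red.Ga S), ∃ x' : X ⟶ Red.Ga S,
    x' ≫ pp = (t ≫ i) * (x ≫ pp) * (t ≫ i)⁻¹ ∧ Red.gaFn x' = Red.gmFn (t ≫ α) * Red.gaFn x
  hpm : ∀ (X : Over S) (t : X ⟶ T) (y : X ⟶ Red.Ga S), ∃ y' : X ⟶ Red.Ga S,
    y' ≫ pm = (t ≫ i) * (y ≫ pm) * (t ≫ i)⁻¹ ∧ Red.gaFn y' * Red.gmFn (t ≫ α) = Red.gaFn y
  hΩ : IsOpenImmersion (cellMap i pp pm).left

attribute [instance] RSys.hi RSys.hαm RSys.hppm RSys.hpmm

section Test

variable {A B : Type u} [CommRing A] [CommRing B]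

/-- An affine test. -/
abbrev tst (b : Spec (CommRingCat.of A) ⟶ S) : Over S := Over.mk b

/-- The functions on an affine test. -/
abbrev sv (b : Spec (CommRingCat.of A) ⟶ S) : Γ((tst b).left, ⊤) ≃+* A := sval b

/-- The map of tests of a ring map. -/
abbrev sh {b : Spec (CommRingCat.of A) ⟶ S} {b' : Spec (CommRingCat.of B) ⟶ S} (φ : A →+* B)
    (h : Spec.map (CommRingCat.ofHom φ) ≫ b = b') : tst b' ⟶ tst b :=
  specHom (A := CommRingCat.of A) (B := CommRingCat.of B) φ h

theorem sv_sh {b : Spec (CommRingCat.of A) ⟶ S} {b' : Spec (CommRingCat.of B) ⟶ S} (φ : A →+* B)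
    (h : Spec.map (CommRingCat.ofHom φ) ≫ b = b') (x : Γ((tst b).left, ⊤)) :
    sv b' ((sh φ h).left.appTop x) = φ (sv b x) :=
  sval_specHom (A := CommRingCat.of A) (B := CommRingCat.of B) φ h x

/-- Every map of tests comes from a ring map. -/
theorem exists_eq_sh {b : Spec (CommRingCat.of A) ⟶ S} {b' : Spec (CommRingCat.of B) ⟶ S} (j : tst b' ⟶ tst b) :
    ∃ (φ : A →+* B) (h : Spec.map (CommRingCat.ofHom φ) ≫ b = b'), j = sh φ h := by
  refine ⟨(Spec.preimage j.left).hom, ?_, ?_⟩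
  · rw [CommRingCat.ofHom_hom, Spec.map_preimage]
    exact Over.w j
  · ext1
    simp [specHom]

/-- A point of the additive group given by an element. -/
abbrev gp (b : Spec (CommRingCat.of A) ⟶ S) (x : A) : tst b ⟶ Red.Ga S := GaPts.ptOfFn ((sv b).symm x)

theorem gp_sv (b : Spec (CommRingCat.of A) ⟶ S) (x : tst b ⟶ Red.Ga S) : gp b (sv b (Red.gaFn x)) = x := by
  rw [gp, RingEquiv.symm_apply_apply]
  exact (ga_eq_ptOfFn x).symm

theorem sh_gp {b : Spec (CommRingCat.of A) ⟶ S} {b' : Spec (CommRingCat.of B) ⟶ S} (φ : A →+* B)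
    (h : Spec.map (CommRingCat.ofHom φ) ≫ b = b') (x : A) : sh φ h ≫ gp b x = gp b' (φ x) :=
  specHom_ptOfFn (A := CommRingCat.of A) (B := CommRingCat.of B) φ h x

theorem gp_mul (b : Spec (CommRingCat.of A) ⟶ S) (x y : A) : gp b (x + y) = gp b x * gp b y :=
  GaPts.gaFn_injective (by
    show Red.gaFn (gp b (x + y)) = Red.gaFn (gp b x * gp b y)
    rw [GaPts.gaFn_mul, gp, gp, gp, GaPts.gaFn_ptOfFn, GaPts.gaFn_ptOfFn, GaPts.gaFn_ptOfFn, map_add])

theorem gp_injective (b : Spec (CommRingCat.of A) ⟶ S) : Function.Injective (gp b) := fun x y h => by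
  have := congrArg Red.gaFn h
  rw [gp, gp, GaPts.gaFn_ptOfFn, GaPts.gaFn_ptOfFn] at this
  exact (sv b).symm.injective this

theorem gp_zero (b : Spec (CommRingCat.of A) ⟶ S) : gp b 0 = 1 :=
  GaPts.gaFn_injective (by
    show Red.gaFn (gp b 0) = Red.gaFn (1 : tst b ⟶ Red.Ga S)
    rw [gp, GaPts.gaFn_ptOfFn, GaPts.gaFn_one, map_zero])

end Test

variable {G T : Over S} [GrpObj G] [GrpObj T] (D : RSys G T)

namespace RSys

variable {A B : Type u} [CommRing A] [CommRing B] (b : Spec (CommRingCat.of A) ⟶ S)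

/-- The positive root group. -/
def P (x : A) : tst b ⟶ G := gp b x ≫ D.pp

/-- The negative root group. -/
def M (y : A) : tst b ⟶ G := gp b y ≫ D.pm

/-- The value of the character. -/
def cv : (tst b ⟶ T) →* Aˣ :=
  (Units.map (sv b).toMonoidHom).comp (MonoidHom.mk' (fun t => GmPts.unitOfPt (t ≫ D.α)) fun s t => by
    rw [show (s * t) ≫ D.α = (s ≫ D.α) * (t ≫ D.α) from MonObj.mul_comp s t D.α, GmPts.unitOfPt_mul])

theorem val_cv (t : tst b ⟶ T) : (D.cv b t : A) = sv b (Red.gmFn (t ≫ D.α)) := rfl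

theorem P_add (x y : A) : D.P b (x + y) = D.P b x * D.P b y := by rw [P, gp_mul, MonObj.mul_comp]; rfl

theorem M_add (x y : A) : D.M b (x + y) = D.M b x * D.M b y := by rw [M, gp_mul, MonObj.mul_comp]; rfl

theorem P_zero : D.P b (0 : A) = 1 := by rw [P, gp_zero, MonObj.one_comp]

theorem M_zero : D.M b (0 : A) = 1 := by rw [M, gp_zero, MonObj.one_comp]

theorem conj_P (t : tst b ⟶ T) (x : A) : (t ≫ D.i) * D.P b x * (t ≫ D.i)⁻¹ = D.P b (D.cv b t * x) := by
  obtain ⟨x', e, hx'⟩ := D.hpp _ t (gp b x)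
  unfold P
  rw [← e, ← gp_sv b x', hx', map_mul, gp, GaPts.gaFn_ptOfFn, RingEquiv.apply_symm_apply, val_cv]

theorem conj_M (t : tst b ⟶ T) (y : A) :
    (t ≫ D.i) * D.M b y * (t ≫ D.i)⁻¹ = D.M b (((D.cv b t)⁻¹ : Aˣ) * y) := by
  obtain ⟨y', e, hy'⟩ := D.hpm _ t (gp b y)
  unfold M
  rw [← e, ← gp_sv b y']
  congr 2
  have h := congrArg (sv b) hy'
  rw [map_mul, ← val_cv, gp, GaPts.gaFn_ptOfFn, RingEquiv.apply_symm_apply] at h
  rw [← h]
  linear_combination (-(sv b (Red.gaFn y'))) * (D.cv b t).inv_mul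

/-- The coordinates of `P x * M y`. -/
def Crd (x y a : A) (t : tst b ⟶ T) (d : A) : Prop := D.P b x * D.M b y = D.M b a * (t ≫ D.i) * D.P b d

/-- `P x * M y` lies in the cell. -/
def Mem (x y : A) : Prop := ∃ a t d, D.Crd b x y a t d

theorem ext {a a' d d' : A} {t t' : tst b ⟶ T}
    (h : D.M b a * (t ≫ D.i) * D.P b d = D.M b a' * (t' ≫ D.i) * D.P b d') : a = a' ∧ t = t' ∧ d = d' := by
  obtain ⟨e1, e2, e3⟩ := cell_ext D.hΩ h
  exact ⟨gp_injective b e1, e2, gp_injective b e3⟩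

theorem Crd.unique {D : RSys G T} {b : Spec (CommRingCat.of A) ⟶ S} {x y a a' d d' : A} {t t' : tst b ⟶ T}
    (h : D.Crd b x y a t d) (h' : D.Crd b x y a' t' d') : a = a' ∧ t = t' ∧ d = d' := D.ext b (h.symm.trans h')

theorem crd_zero_right (x : A) : D.Crd b x 0 0 1 x := by simp [Crd, M_zero, MonObj.one_comp]

theorem crd_zero_left (y : A) : D.Crd b 0 y y 1 0 := by simp [Crd, P_zero, MonObj.one_comp]

variable {b} {b' : Spec (CommRingCat.of B) ⟶ S} (φ : A →+* B) (h : Spec.map (CommRingCat.ofHom φ) ≫ b = b')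

theorem sh_P (x : A) : sh φ h ≫ D.P b x = D.P b' (φ x) := by rw [P, ← Category.assoc, sh_gp φ h]; rfl

theorem sh_M (x : A) : sh φ h ≫ D.M b x = D.M b' (φ x) := by rw [M, ← Category.assoc, sh_gp φ h]; rfl

theorem cv_sh (t : tst b ⟶ T) : (D.cv b' (sh φ h ≫ t) : B) = φ (D.cv b t) := by
  rw [val_cv, val_cv, Category.assoc, GmPts.gmFn_comp]
  exact sv_sh φ h _

variable {D} in
theorem Crd.map {x y a d : A} {t : tst b ⟶ T} (hc : D.Crd b x y a t d) :
    D.Crd b' (φ x) (φ y) (φ a) (sh φ h ≫ t) (φ d) := by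
  unfold Crd at *
  rw [← D.sh_P φ h, ← D.sh_M φ h, ← D.sh_M φ h, ← D.sh_P φ h, ← MonObj.comp_mul, hc, MonObj.comp_mul,
    MonObj.comp_mul, Category.assoc]

variable (b) in
/-- Membership in the cell is tested on fields. -/
theorem mem_of_fields (x y : A)
    (hK : ∀ (K : Type u) [Field K] (φ : A →+* K),
      D.Mem (Spec.map (CommRingCat.ofHom φ) ≫ b) (φ x) (φ y)) : D.Mem b x y := by
  obtain ⟨a, t, d, e⟩ := exists_coords D.hΩ (D.P b x * D.M b y) fun K hK' bK j _ => by
    letI := hK'.toField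
    obtain ⟨φ, hφ, rfl⟩ := exists_eq_sh (A := A) (B := K) (b := b) (b' := bK) j
    subst hφ
    obtain ⟨a, t, d, hc⟩ := hK K φ
    refine ⟨gp _ a, t, gp _ d, ?_⟩
    rw [MonObj.comp_mul, D.sh_P φ rfl, D.sh_M φ rfl]
    exact hc
  refine ⟨sv b (Red.gaFn a), t, sv b (Red.gaFn d), ?_⟩
  unfold Crd
  rw [M, P, P, M, gp_sv, gp_sv]
  exact e

/-- Membership descends along extensions of fields. -/
theorem mem_of_extension {K L : Type u} [Field K] [Field L] {bK : Spec (CommRingCat.of K) ⟶ S}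
    {bL : Spec (CommRingCat.of L) ⟶ S} (θ : K →+* L) (hθ : Spec.map (CommRingCat.ofHom θ) ≫ bK = bL)
    {x y : K} (hm : D.Mem bL (θ x) (θ y)) : D.Mem bK x y := by
  obtain ⟨a, t, d, hc⟩ := hm
  obtain ⟨a', t', d', e⟩ := exists_coords_of_mem (K := K) D.hΩ (D.P bK x * D.M bK y) (by
    have hcp : (sh θ hθ).left (IsLocalRing.closedPoint L) = IsLocalRing.closedPoint K :=
      Subsingleton.elim (α := Spec (CommRingCat.of K)) _ _
    rw [← hcp]
    refine ⟨(lift (lift (gp bL a) t) (gp bL d)).left (IsLocalRing.closedPoint L), ?_⟩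
    have h1 : sh θ hθ ≫ (D.P bK x * D.M bK y) =
        lift (lift (gp bL a) t) (gp bL d) ≫ cellMap D.i D.pp D.pm := by
      rw [cell_comp, MonObj.comp_mul, D.sh_P θ hθ, D.sh_M θ hθ]
      exact hc
    exact (congrArg (fun l : tst bL ⟶ G => l.left (IsLocalRing.closedPoint L)) h1).symm)
  refine ⟨sv bK (Red.gaFn a'), t', sv bK (Red.gaFn d'), ?_⟩
  unfold Crd
  rw [M, P, P, M, gp_sv, gp_sv]
  exact e

end RSys

section Values

variable {A B C : Type u} [CommRing A] [CommRing B] [CommRing C] {b : Spec (CommRingCat.of A) ⟶ S}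
  {b' : Spec (CommRingCat.of B) ⟶ S}

/-- The value of a function of the base change at a point. -/
def fval (φ : A →+* B) (h : Spec.map (CommRingCat.ofHom φ) ≫ b = b') {Y : Over S} (q : tst b' ⟶ Y)
    (f : Γ(pullback Y.hom b, ⊤)) : B :=
  sv b' ((pullback.lift q.left (Spec.map (CommRingCat.ofHom φ)) ((Over.w q).trans h.symm)).appTop f)

theorem fval_sh (φ : A →+* B) (h : Spec.map (CommRingCat.ofHom φ) ≫ b = b') {b'' : Spec (CommRingCat.of C) ⟶ S}
    (ψ : B →+* C) (h' : Spec.map (CommRingCat.ofHom ψ) ≫ b' = b'')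
    (h'' : Spec.map (CommRingCat.ofHom (ψ.comp φ)) ≫ b = b'') {Y : Over S} (q : tst b' ⟶ Y)
    (f : Γ(pullback Y.hom b, ⊤)) : fval (ψ.comp φ) h'' (sh ψ h' ≫ q) f = ψ (fval φ h q f) := by
  unfold fval
  have key : pullback.lift (sh ψ h' ≫ q).left (Spec.map (CommRingCat.ofHom (ψ.comp φ)))
      ((Over.w (sh ψ h' ≫ q)).trans h''.symm) =
      (sh ψ h').left ≫ pullback.lift q.left (Spec.map (CommRingCat.ofHom φ)) ((Over.w q).trans h.symm) := by
    apply pullback.hom_ext
    · simp only [pullback.lift_fst, Category.assoc]; rfl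
    · simp only [pullback.lift_snd, Category.assoc]
      rw [CommRingCat.ofHom_comp, Spec.map_comp]
      rfl
  rw [key, ← sv_sh ψ h']
  exact congrArg (sv b'') (GmPts.appTop_comp_apply _ _ _)

theorem eq_of_fval (φ : A →+* B) (h : Spec.map (CommRingCat.ofHom φ) ≫ b = b') {Y : Over S} [IsAffineHom Y.hom]
    {q q' : tst b' ⟶ Y} (he : ∀ f, fval φ h q f = fval φ h q' f) : q = q' := by
  haveI : IsAffineHom (pullback.snd Y.hom b) := inferInstance
  haveI : IsAffine (pullback Y.hom b) := isAffine_of_isAffineHom (pullback.snd Y.hom b)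
  let l : (tst b' ⟶ Y) → (Spec (CommRingCat.of B) ⟶ pullback Y.hom b) := fun k =>
    pullback.lift k.left (Spec.map (CommRingCat.ofHom φ)) ((Over.w k).trans h.symm)
  have hl : l q = l q' :=
    ext_of_isAffine (CommRingCat.hom_ext (RingHom.ext fun f => (sv b').injective (he f)))
  ext1
  exact (pullback.lift_fst _ _ _).symm.trans
    ((congrArg (· ≫ pullback.fst Y.hom b) hl).trans (pullback.lift_fst _ _ _))

end Values

theorem RSys.isAffineHom_T {G T : Over S} [GrpObj G] [GrpObj T] (D : RSys G T) : IsAffineHom T.hom :=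
  Sga3xB.isAffineHom_of_isMultTypeFT (RankOne.isMultTypeFT_of_isTorus D.hT)

section Dual

variable {A B : Type u} [CommRing A] [CommRing B]

/-- The map of dual numbers of a ring map. -/
def dmap (φ : A →+* B) : DualNumber A →+* DualNumber B where
  toFun x := TrivSqZeroExt.inl (φ x.fst) + TrivSqZeroExt.inr (φ x.snd)
  map_one' := by ext <;> simp
  map_zero' := by ext <;> simp
  map_mul' x y := by ext <;> simp [mul_comm]
  map_add' x y := by ext <;> simp

theorem fst_dmap (φ : A →+* B) (x : DualNumber A) : (dmap φ x).fst = φ x.fst := by simp [dmap]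

theorem snd_dmap (φ : A →+* B) (x : DualNumber A) : (dmap φ x).snd = φ x.snd := by simp [dmap]

theorem dmap_eps (φ : A →+* B) : dmap φ (DualNumber.eps : DualNumber A) = DualNumber.eps := by
  ext <;> simp [dmap]

/-- The scalars of the dual numbers. -/
def dinl (A : Type u) [CommRing A] : A →+* DualNumber A := TrivSqZeroExt.inlHom A A

theorem dmap_comp_dinl (φ : A →+* B) : (dmap φ).comp (dinl A) = (dinl B).comp φ := by
  ext r <;> simp [dmap, dinl]

/-- The base of the dual numbers. -/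
def dBase (b : Spec (CommRingCat.of A) ⟶ S) : Spec (CommRingCat.of (DualNumber A)) ⟶ S :=
  Spec.map (CommRingCat.ofHom (dinl A)) ≫ b

theorem dBase_map {b : Spec (CommRingCat.of A) ⟶ S} {b' : Spec (CommRingCat.of B) ⟶ S} (φ : A →+* B)
    (h : Spec.map (CommRingCat.ofHom φ) ≫ b = b') : Spec.map (CommRingCat.ofHom (dmap φ)) ≫ dBase b = dBase b' := by
  subst h
  unfold dBase
  rw [← Category.assoc, ← Category.assoc, ← Spec.map_comp, ← Spec.map_comp, ← CommRingCat.ofHom_comp,
    ← CommRingCat.ofHom_comp, dmap_comp_dinl]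

end Dual

namespace RSys

variable {A B : Type u} [CommRing A] [CommRing B]

theorem mem_eps (b : Spec (CommRingCat.of A) ⟶ S) : D.Mem (dBase b) 1 DualNumber.eps := by
  refine D.mem_of_fields _ _ _ fun K _ φ => ?_
  have h0 : φ DualNumber.eps = 0 := by
    have : φ DualNumber.eps * φ DualNumber.eps = 0 := by rw [← map_mul, DualNumber.eps_mul_eps, map_zero]
    exact mul_self_eq_zero.1 this
  rw [h0]
  exact ⟨_, _, _, D.crd_zero_right _ _⟩

/-- The constant: the derivative of the coordinate along the negative root group. -/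
def der (b : Spec (CommRingCat.of A) ⟶ S) : A := -(D.mem_eps b).choose_spec.choose_spec.choose.snd

theorem crd_eps (b : Spec (CommRingCat.of A) ⟶ S) :
    ∃ a t, D.Crd (dBase b) 1 DualNumber.eps a t (1 - TrivSqZeroExt.inr (D.der b)) := by
  have hspec := (D.mem_eps b).choose_spec.choose_spec.choose_spec
  set d := (D.mem_eps b).choose_spec.choose_spec.choose with hd
  have hfst : d.fst = 1 := by
    have h0 : Spec.map (CommRingCat.ofHom (TrivSqZeroExt.fstHom A A A).toRingHom) ≫ dBase b = b := by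
      unfold dBase
      rw [← Category.assoc, ← Spec.map_comp, ← CommRingCat.ofHom_comp,
        show ((TrivSqZeroExt.fstHom A A A).toRingHom).comp (dinl A) = RingHom.id A from
          RingHom.ext fun r => by simp [dinl]]
      simp
    have h1 := hspec.map _ h0
    rw [show (TrivSqZeroExt.fstHom A A A).toRingHom DualNumber.eps = 0 by simp, map_one] at h1
    exact (h1.unique (D.crd_zero_right b 1)).2.2
  have he : (1 : DualNumber A) - TrivSqZeroExt.inr (D.der b) = d := by
    ext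
    · simp [hfst]
    · simp [der, ← hd]
  exact ⟨_, _, he.symm ▸ hspec⟩

theorem der_map {b : Spec (CommRingCat.of A) ⟶ S} {b' : Spec (CommRingCat.of B) ⟶ S} (φ : A →+* B)
    (h : Spec.map (CommRingCat.ofHom φ) ≫ b = b') : φ (D.der b) = D.der b' := by
  obtain ⟨a, t, hc⟩ := D.crd_eps b
  obtain ⟨a', t', hc'⟩ := D.crd_eps b'
  have h1 := hc.map (dmap φ) (dBase_map φ h)
  rw [map_one, dmap_eps] at h1
  have := congrArg TrivSqZeroExt.snd (h1.unique hc').2.2
  rw [snd_dmap] at this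
  simpa using this

theorem der_eq {b : Spec (CommRingCat.of A) ⟶ S} {a d : DualNumber A} {t : tst (dBase b) ⟶ T}
    (hc : D.Crd (dBase b) 1 DualNumber.eps a t d) : D.der b = -d.snd := by
  obtain ⟨a', t', hc'⟩ := D.crd_eps b
  rw [(hc.unique hc').2.2]
  simp

end RSys

end Groth.Agent.Red23Lib.Rule
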