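import Mathlib.Algebra.Polynomial.Roots
import Mathlib.FieldTheory.IsAlgClosed.Basic
import Mathlib.Tactic.LinearCombination
import Mathlib.Tactic.FieldSimp
import Mathlib.Tactic.Group

/-!
# Rank-one systems over an algebraically closed field

The commutation rule is forced by the group law, the torus action and openness of the cell.
-/

set_option autoImplicit false

universe u v w

namespace Groth.Agent.Red23Lib.Rule

/-- Points of a rank-one system with values in a field. -/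
structure FSys (L : Type u) (G : Type v) (T : Type w) [Field L] [Group G] [Group T] where
  p : L → G
  m : L → G
  I : T →* G
  c : T →* Lˣ
  c_surj : Function.Surjective c
  p_add : ∀ x y, p (x + y) = p x * p y
  m_add : ∀ x y, m (x + y) = m x * m y
  conj_p : ∀ t x, I t * p x * (I t)⁻¹ = p (c t * x)
  conj_m : ∀ t y, I t * m y * (I t)⁻¹ = m (((c t)⁻¹ : Lˣ) * y)
  ext : ∀ a t d a' t' d', m a * I t * p d = m a' * I t' * p d' → a = a' ∧ t = t' ∧ d = d'

namespace FSys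

variable {L : Type u} {G : Type v} {T : Type w} [Field L] [Group G] [Group T] (Φ : FSys L G T)

/-- The coordinates of `p x * m y`. -/
def Crd (x y a : L) (t : T) (d : L) : Prop := Φ.p x * Φ.m y = Φ.m a * Φ.I t * Φ.p d

/-- `p x * m y` lies in the cell. -/
def Mem (x y : L) : Prop := ∃ a t d, Φ.Crd x y a t d

@[simp] theorem p_zero : Φ.p 0 = 1 := by simpa using Φ.p_add 0 0

@[simp] theorem m_zero : Φ.m 0 = 1 := by simpa using Φ.m_add 0 0

theorem I_mul_p (t : T) (x : L) : Φ.I t * Φ.p x = Φ.p (Φ.c t * x) * Φ.I t := by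
  rw [← Φ.conj_p, inv_mul_cancel_right]

theorem I_mul_m (t : T) (y : L) : Φ.I t * Φ.m y = Φ.m (((Φ.c t)⁻¹ : Lˣ) * y) * Φ.I t := by
  rw [← Φ.conj_m, inv_mul_cancel_right]

theorem p_mul_I (t : T) (x : L) : Φ.p x * Φ.I t = Φ.I t * Φ.p (((Φ.c t)⁻¹ : Lˣ) * x) := by
  rw [I_mul_p, Units.mul_inv_cancel_left]

variable {Φ}

theorem Crd.unique {x y a d a' d' : L} {t t' : T} (h : Φ.Crd x y a t d) (h' : Φ.Crd x y a' t' d') :
    a = a' ∧ t = t' ∧ d = d' := Φ.ext _ _ _ _ _ _ (h.symm.trans h')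

theorem crd_zero_left (y : L) : Φ.Crd 0 y y 1 0 := by simp [Crd]

theorem crd_zero_right (x : L) : Φ.Crd x 0 0 1 x := by simp [Crd]

theorem Crd.scale {x y a d : L} {t : T} (h : Φ.Crd x y a t d) (s : T) :
    Φ.Crd (Φ.c s * x) (((Φ.c s)⁻¹ : Lˣ) * y) (((Φ.c s)⁻¹ : Lˣ) * a) (s * t * s⁻¹) (Φ.c s * d) := by
  unfold Crd at *
  rw [← Φ.conj_p, ← Φ.conj_m, ← Φ.conj_m, ← Φ.conj_p, map_mul, map_mul, map_inv]
  calc _ = Φ.I s * (Φ.p x * Φ.m y) * (Φ.I s)⁻¹ := by group
    _ = _ := by rw [h]; group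

/-- Reduction to the line `x = 1`. -/
theorem Crd.scale_one {x y a d : L} {t : T} (hx : x ≠ 0) (h : Φ.Crd 1 (x * y) a t d) :
    ∃ t', Φ.Crd x y (x⁻¹ * a) t' (x * d) := by
  obtain ⟨s, hs⟩ := Φ.c_surj (Units.mk0 x hx)
  have := h.scale s
  rw [hs, Units.val_inv_eq_inv_val, Units.val_mk0, mul_one, inv_mul_cancel_left₀ hx] at this
  exact ⟨_, this⟩

theorem mem_iff_one {x y : L} (hx : x ≠ 0) : Φ.Mem x y ↔ Φ.Mem 1 (x * y) := by
  constructor
  · rintro ⟨a, t, d, h⟩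
    obtain ⟨s, hs⟩ := Φ.c_surj (Units.mk0 x hx)⁻¹
    have := h.scale s
    rw [hs, inv_inv, Units.val_inv_eq_inv_val, Units.val_mk0, inv_mul_cancel₀ hx] at this
    exact ⟨_, _, _, this⟩
  · rintro ⟨a, t, d, h⟩
    obtain ⟨t', h'⟩ := h.scale_one hx
    exact ⟨_, _, _, h'⟩

theorem Crd.add_right {x y a d : L} {t : T} (h : Φ.Crd x y a t d) {v a' d' : L} {t' : T}
    (h' : Φ.Crd d v a' t' d') : Φ.Crd x (y + v) (a + ((Φ.c t)⁻¹ : Lˣ) * a') (t * t') d' := by
  unfold Crd at *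
  rw [Φ.m_add, ← mul_assoc, h, Φ.m_add, map_mul]
  calc _ = Φ.m a * Φ.I t * (Φ.p d * Φ.m v) := by group
    _ = Φ.m a * (Φ.I t * Φ.m a') * Φ.I t' * Φ.p d' := by rw [h']; group
    _ = _ := by rw [I_mul_m]; group

theorem Crd.mem_add_right {x y a d : L} {t : T} (h : Φ.Crd x y a t d) (v : L) :
    Φ.Mem x (y + v) ↔ Φ.Mem d v := by
  constructor
  · rintro ⟨A, U, D, e⟩
    refine ⟨(Φ.c t : L) * (A - a), t⁻¹ * U, D, ?_⟩
    unfold Crd at *
    rw [Φ.m_add, ← mul_assoc, h] at e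
    have e1 : Φ.p d * Φ.m v = (Φ.I t)⁻¹ * (Φ.m (-a) * Φ.m A) * Φ.I U * Φ.p D := by
      rw [show Φ.m (-a) = (Φ.m a)⁻¹ by rw [eq_inv_iff_mul_eq_one, ← Φ.m_add, neg_add_cancel, m_zero]]
      calc Φ.p d * Φ.m v = (Φ.I t)⁻¹ * (Φ.m a)⁻¹ * (Φ.m a * Φ.I t * Φ.p d * Φ.m v) := by group
        _ = _ := by rw [e]; group
    rw [e1, ← Φ.m_add, map_mul, map_inv, neg_add_eq_sub]
    have e2 := Φ.I_mul_m t⁻¹ (A - a)
    rw [map_inv, map_inv, inv_inv] at e2
    rw [e2]
    group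
  · rintro ⟨a', t', d', h'⟩
    exact ⟨_, _, _, h.add_right h'⟩

theorem Crd.add_left {x y a d : L} {t : T} (h : Φ.Crd x y a t d) {r a' d' : L} {t' : T}
    (h' : Φ.Crd r a a' t' d') : Φ.Crd (r + x) y a' (t' * t) (((Φ.c t)⁻¹ : Lˣ) * d' + d) := by
  unfold Crd at *
  rw [Φ.p_add, mul_assoc, h, Φ.p_add, map_mul]
  calc _ = (Φ.p r * Φ.m a) * Φ.I t * Φ.p d := by group
    _ = Φ.m a' * Φ.I t' * (Φ.p d' * Φ.I t) * Φ.p d := by rw [h']; group
    _ = _ := by rw [p_mul_I]; group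

theorem Crd.mem_add_left {x y a d : L} {t : T} (h : Φ.Crd x y a t d) (r : L) :
    Φ.Mem (r + x) y ↔ Φ.Mem r a := by
  constructor
  · rintro ⟨A, U, D, e⟩
    refine ⟨A, U * t⁻¹, (Φ.c t : L) * (D - d), ?_⟩
    unfold Crd at *
    rw [Φ.p_add, mul_assoc, h] at e
    have e1 : Φ.p r * Φ.m a = Φ.m A * Φ.I U * (Φ.p D * Φ.p (-d)) * (Φ.I t)⁻¹ := by
      rw [show Φ.p (-d) = (Φ.p d)⁻¹ by rw [eq_inv_iff_mul_eq_one, ← Φ.p_add, neg_add_cancel, p_zero]]
      calc Φ.p r * Φ.m a = (Φ.p r * (Φ.m a * Φ.I t * Φ.p d)) * (Φ.p d)⁻¹ * (Φ.I t)⁻¹ := by group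
        _ = _ := by rw [e]; group
    rw [e1, ← Φ.p_add, map_mul, map_inv, ← sub_eq_add_neg]
    have e2 := Φ.p_mul_I t⁻¹ (D - d)
    rw [map_inv, map_inv, inv_inv] at e2
    rw [mul_assoc (Φ.m A * Φ.I U), e2]
    group
  · rintro ⟨a', t', d', h'⟩
    exact ⟨_, _, _, h.add_left h'⟩

/-- The complement of the cell on the line is one point, and the rule holds. -/
theorem single [Infinite L] (hfin : {u : L | ¬ Φ.Mem 1 u}.Finite) (hne : ∃ u, ¬ Φ.Mem 1 u) :
    ∃ a : L, a ≠ 0 ∧ ∀ x y : L, (Φ.Mem x y ↔ 1 + a * x * y ≠ 0) ∧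
      ∀ a' t d, Φ.Crd x y a' t d → d * (1 + a * x * y) = x ∧ a' * (1 + a * x * y) = y := by
  obtain ⟨z0, hz0⟩ := hne
  set Z := {u : L | ¬ Φ.Mem 1 u} with hZ
  have hz0' : z0 ≠ 0 := fun h => hz0 ⟨_, _, _, h ▸ crd_zero_right 1⟩
  -- the translation law
  have hA : ∀ u a t d, Φ.Crd 1 u a t d → d ≠ 0 ∧ ∀ z ∈ Z, d * (z - u) ∈ Z := fun u a t d h => by
    have hd : d ≠ 0 := fun hd => by
      refine hz0 ?_
      have := (h.mem_add_right (z0 - u)).2 ⟨_, _, _, hd ▸ crd_zero_left _⟩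
      rwa [add_sub_cancel] at this
    refine ⟨hd, fun z hz hmem => hz ?_⟩
    have := (h.mem_add_right (z - u)).2 ((mem_iff_one hd).2 hmem)
    rwa [add_sub_cancel] at this
  have hinf : {u : L | Φ.Mem 1 u}.Infinite := fun hf => Set.infinite_univ (α := L)
    ((hfin.union hf).subset fun u _ => (em (Φ.Mem 1 u)).symm)
  have hsing : ∀ z ∈ Z, z = z0 := by
    intro z hz
    by_contra hne'
    choose fa ft fd hcrd using fun u : {u : L | Φ.Mem 1 u} => u.2
    let Q : Set L := (fun q : L × L => (q.1 - q.2) / (z - z0)) '' Z ×ˢ Z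
    have : Finite Q := ((hfin.prod hfin).image _).to_subtype
    have : Infinite {u : L | Φ.Mem 1 u} := hinf.to_subtype
    obtain ⟨q, hq⟩ := Finite.exists_infinite_fiber (fun u : {u : L | Φ.Mem 1 u} =>
      (⟨fd u, ⟨(fd u * (z - u), fd u * (z0 - u)),
        ⟨(hA _ _ _ _ (hcrd u)).2 z hz, (hA _ _ _ _ (hcrd u)).2 z0 hz0⟩, by
          rw [div_eq_iff (sub_ne_zero.2 hne')]; ring⟩⟩ : Q))
    rw [Set.infinite_coe_iff] at hq
    refine hq (Set.Finite.of_finite_image (hfin.subset ?_) (f := fun u => fd u * (z - u)) ?_)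
    · rintro _ ⟨u, -, rfl⟩
      exact (hA _ _ _ _ (hcrd u)).2 z hz
    · intro u hu u' hu' e
      have hu : fd u = q := congrArg Subtype.val hu
      have hu' : fd u' = q := congrArg Subtype.val hu'
      simp only [hu, hu'] at e
      have hq0 : (q : L) ≠ 0 := hu ▸ (hA _ _ _ _ (hcrd u)).1
      exact Subtype.ext (sub_right_inj.1 (mul_left_cancel₀ hq0 e))
  have hmem : ∀ u, Φ.Mem 1 u ↔ u ≠ z0 :=
    fun u => ⟨fun h e => hz0 (e ▸ h), fun h => by_contra fun hu => h (hsing u hu)⟩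
  refine ⟨-z0⁻¹, neg_ne_zero.2 (inv_ne_zero hz0'), fun x y => ⟨?_, ?_⟩⟩
  · rcases eq_or_ne x 0 with rfl | hx
    · exact iff_of_true ⟨_, _, _, crd_zero_left y⟩ (by simp)
    · rw [mem_iff_one hx, hmem]
      refine not_congr ?_
      constructor <;> intro h
      · rw [show -z0⁻¹ * x * y = -(z0⁻¹ * (x * y)) by ring, h, inv_mul_cancel₀ hz0', add_neg_cancel]
      · field_simp at h
        linear_combination -h
  · intro a' t d hcrd
    rcases eq_or_ne x 0 with rfl | hx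
    · obtain ⟨rfl, -, rfl⟩ := hcrd.unique (crd_zero_left y)
      simp
    · obtain ⟨a₁, t₁, d₁, h₁⟩ := (mem_iff_one hx).1 ⟨_, _, _, hcrd⟩
      obtain ⟨t₂, h₂⟩ := h₁.scale_one hx
      obtain ⟨rfl, -, rfl⟩ := hcrd.unique h₂
      -- `x' = 1 / (1 + a x y)`
      have e1 : d₁ * (z0 - x * y) = z0 := hsing _ ((hA _ _ _ _ h₁).2 z0 hz0)
      constructor
      · field_simp
        linear_combination e1
      · rcases eq_or_ne y 0 with rfl | hy
        · rw [mul_zero] at h₁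
          obtain ⟨rfl, -, -⟩ := h₁.unique (crd_zero_right 1)
          simp
        · have hxy : x * y ≠ 0 := mul_ne_zero hx hy
          obtain ⟨b, tb, db, hb⟩ := (mem_iff_one hxy).2 (show Φ.Mem 1 (x * y * 1) by
            rw [mul_one]; exact ⟨_, _, _, h₁⟩)
          -- `y'` on the line `y = 1`, by the same translation law
          obtain ⟨t₃, h₃⟩ := Crd.scale_one (y := (1 : L)) hxy (a := a₁) (d := d₁) (t := t₁) (by rwa [mul_one])
          obtain ⟨rfl, -, -⟩ := hb.unique h₃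
          obtain ⟨b, hbdef⟩ : ∃ b', b' = (x * y)⁻¹ * a₁ := ⟨_, rfl⟩
          rw [← hbdef] at hb
          have hb0 : b ≠ 0 := fun h0 => hz0 (by
            have h := (hb.mem_add_left (z0 - x * y)).2 ⟨_, _, _, h0 ▸ crd_zero_right _⟩
            rwa [sub_add_cancel, mem_iff_one hz0', mul_one] at h)
          have hb1 : (z0 - x * y) * b = z0 := hsing _ fun h => hz0 (by
            have h' := (hb.mem_add_left (z0 - x * y)).2
              ((mem_iff_one (sub_ne_zero.2 fun e => (hmem _).1 ⟨_, _, _, h₁⟩ e.symm)).2 h)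
            rwa [sub_add_cancel, mem_iff_one hz0', mul_one] at h')
          have ha1 : a₁ = x * y * b := by rw [hbdef, mul_inv_cancel_left₀ hxy]
          rw [ha1]
          field_simp
          linear_combination hb1

/-- If the whole line is in the cell, the root groups commute. -/
theorem commute_of_all [IsAlgClosed L] (hall : ∀ u, Φ.Mem 1 u) (PA PB : Polynomial L)
    (hPA : ∀ u a t d, Φ.Crd 1 u a t d → d = PA.eval u) (hPB : ∀ u a t d, Φ.Crd u 1 a t d → a = PB.eval u)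
    (ht : ∀ u a t d, Φ.Crd 1 u a t d → t = 1) (x y : L) : Φ.Crd x y y 1 x := by
  have hall' : ∀ x y, Φ.Mem x y := fun x y => by
    rcases eq_or_ne x 0 with rfl | hx
    · exact ⟨_, _, _, crd_zero_left y⟩
    · exact (mem_iff_one hx).2 (hall _)
  have key : ∀ P : Polynomial L, P.eval 0 = 1 → (∀ u, P.eval u = 0 → ∀ v, P.eval (u + v) = 0) →
      ∀ u, P.eval u = 1 := by
    intro P h0 h u
    have hdeg : P.natDegree = 0 := by
      by_contra hd
      obtain ⟨r, hr⟩ := IsAlgClosed.exists_root P (fun e => hd (Polynomial.natDegree_eq_of_degree_eq_some e))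
      have := h r hr (-r)
      rw [add_neg_cancel, h0] at this
      exact one_ne_zero this
    rw [Polynomial.eq_C_of_natDegree_eq_zero hdeg] at h0 ⊢
    simpa using h0
  have hA1 : ∀ u a t d, Φ.Crd 1 u a t d → d = 1 := fun u a t d h => by
    rw [hPA u a t d h]
    refine key PA (hPA 0 _ _ _ (crd_zero_right 1)).symm (fun u hu v => ?_) u
    obtain ⟨a, t, d, h⟩ := hall u
    have hd : d = 0 := (hPA _ _ _ _ h).trans hu
    subst hd
    exact (hPA _ _ _ _ (h.add_right (crd_zero_left v))).symm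
  have hB1 : ∀ u a t d, Φ.Crd u 1 a t d → a = 1 := fun u a t d h => by
    rw [hPB u a t d h]
    refine key PB (hPB 0 _ _ _ (crd_zero_left 1)).symm (fun u hu v => ?_) u
    obtain ⟨a, t, d, h⟩ := hall' u 1
    have ha : a = 0 := (hPB _ _ _ _ h).trans hu
    subst ha
    rw [add_comm u v]
    exact (hPB _ _ _ _ (h.add_left (crd_zero_right v))).symm
  have h1 : ∀ u, Φ.Crd 1 u u 1 1 := fun u => by
    obtain ⟨a, t, d, h⟩ := hall u
    obtain rfl := hA1 _ _ _ _ h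
    obtain rfl := ht _ _ _ _ h
    rcases eq_or_ne u 0 with rfl | hu
    · exact crd_zero_right 1
    obtain ⟨t', h'⟩ := Crd.scale_one (y := (1 : L)) hu (a := a) (d := (1 : L)) (t := (1 : T)) (by rwa [mul_one])
    have e := hB1 _ _ _ _ h'
    rw [inv_mul_eq_one₀ hu] at e
    subst e
    exact h
  rcases eq_or_ne x 0 with rfl | hx
  · exact crd_zero_left y
  obtain ⟨s, hs⟩ := Φ.c_surj (Units.mk0 x hx)
  have := (h1 (x * y)).scale s
  rw [hs, Units.val_inv_eq_inv_val, Units.val_mk0, mul_one, mul_one, mul_inv_cancel, inv_mul_cancel_left₀ hx] at this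
  exact this

end FSys

end Groth.Agent.Red23Lib.Rule
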