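import Groth.Agent.Red23Lib.Rule.Defs
import Groth.Agent.Red23Lib.Rule.FieldCore
import Mathlib.Algebra.Group.UniqueProds.Basic
import Mathlib.RingTheory.Localization.Away.Basic
import Mathlib.FieldTheory.IsAlgClosed.AlgebraicClosure
import Mathlib.RingTheory.Localization.FractionRing

/-!
# The commutation rule on fields
-/

set_option autoImplicit false
set_option linter.style.haveILetI false

universe u

open CategoryTheory CategoryTheory.Limits AlgebraicGeometry MonoidalCategory CartesianMonoidalCategory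
open Groth.Agent.GrpSchLib Groth.Agent.GrpSchLib.RankOne
open scoped MonObj Polynomial

noncomputable section

namespace Groth.Agent.Red23Lib.Rule

/-- Units of the group algebra of a torsion-free group over a domain are monomials. -/
theorem exists_eq_single_of_isUnit {A : Type*} [CommRing A] [IsDomain A] {H : Type*} [CommGroup H] [TwoUniqueProds H]
    {f : MonoidAlgebra A H} (hf : IsUnit f) : ∃ (m : H) (c : A), f = MonoidAlgebra.single m c := by
  classical
  obtain ⟨g, h⟩ := hf.exists_right_inv
  have hfs : f.coeff.support.Nonempty :=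
    Finsupp.support_nonempty_iff.2 fun h0 => by simp [show f = 0 from MonoidAlgebra.ext h0] at h
  have hgs : g.coeff.support.Nonempty :=
    Finsupp.support_nonempty_iff.2 fun h0 => by simp [show g = 0 from MonoidAlgebra.ext h0] at h
  by_cases hcard : 1 < f.coeff.support.card * g.coeff.support.card
  · exfalso
    obtain ⟨p1, hp1, p2, hp2, hne, u1, u2⟩ := TwoUniqueProds.uniqueMul_of_one_lt_card hcard
    have key : ∀ p ∈ f.coeff.support ×ˢ g.coeff.support, UniqueMul f.coeff.support g.coeff.support p.1 p.2 →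
        p.1 * p.2 = 1 := by
      intro p hp u
      by_contra hne0
      have h1 := MonoidAlgebra.coeff_mul_mul_of_uniqueMul (f := f) (g := g) u
      rw [h, MonoidAlgebra.one_def, MonoidAlgebra.coeff_single, Finsupp.single_eq_of_ne hne0] at h1
      obtain ⟨hp₁, hp₂⟩ := Finset.mem_product.1 hp
      exact mul_ne_zero (Finsupp.mem_support_iff.1 hp₁) (Finsupp.mem_support_iff.1 hp₂) h1.symm
    obtain ⟨e1, e2⟩ := u1 (Finset.mem_product.1 hp2).1 (Finset.mem_product.1 hp2).2
      ((key p2 hp2 u2).trans (key p1 hp1 u1).symm)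
    exact hne (Prod.ext e1 e2).symm
  · have : f.coeff.support.card = 1 := by
      have h1 := hfs.card_pos
      have h2 := hgs.card_pos
      nlinarith
    obtain ⟨a, c, -, hfc⟩ := Finsupp.card_support_eq_one'.1 this
    exact ⟨a, c, MonoidAlgebra.ext (by rw [hfc, MonoidAlgebra.coeff_single])⟩

section Line

variable {L : Type u} [Field L] [IsAlgClosed L]

/-- An element of a principal localisation of `L[Y]` vanishing at almost all points is zero. -/
theorem eq_zero_of_evals {h : L[X]} (hh : h ≠ 0) (e : Localization.Away h)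
    (he : ∀ (u : L) (hu : IsUnit (Polynomial.evalRingHom u h)),
      IsLocalization.Away.lift h (g := Polynomial.evalRingHom u) hu e = 0) : e = 0 := by
  obtain ⟨n, a, ha⟩ := IsLocalization.Away.surj h e
  have h0 : a * h = 0 := Polynomial.zero_of_eval_zero _ fun u => by
    by_cases hu : h.eval u = 0
    · simp [hu]
    · have hu' : IsUnit (Polynomial.evalRingHom u h) := (isUnit_iff_ne_zero.2 hu)
      have := congrArg (IsLocalization.Away.lift h (g := Polynomial.evalRingHom u) hu') ha
      rw [map_mul, he u hu', zero_mul, IsLocalization.Away.lift_eq] at this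
      simp [show a.eval u = 0 from this.symm]
  have ha0 : a = 0 := (mul_eq_zero.1 h0).resolve_right hh
  rw [ha0, map_zero] at ha
  exact ((IsLocalization.Away.algebraMap_isUnit (S := Localization.Away h) h).pow n).mul_left_eq_zero.1 ha

end Line

variable {S : Scheme.{u}} {G T : Over S} [GrpObj G] [GrpObj T] (D : RSys G T)

namespace RSys

section Closure

variable {K : Type u} [Field K] (b : Spec (CommRingCat.of K) ⟶ S)

/-- An algebraically closed extension over which the torus is split, and the character onto. -/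
theorem exists_good : ∃ (L : Type u) (_ : Field L) (θ : K →+* L) (b' : Spec (CommRingCat.of L) ⟶ S),
    IsAlgClosed L ∧ Spec.map (CommRingCat.ofHom θ) ≫ b = b' ∧ Function.Surjective (D.cv b') ∧
      ∀ (q : tst (Spec.map (CommRingCat.ofHom (Polynomial.C : L →+* L[X])) ≫ b') ⟶ T) (u : L)
        (h : ∀ v : L, Spec.map (CommRingCat.ofHom (Polynomial.evalRingHom v : L[X] →+* L)) ≫
          (Spec.map (CommRingCat.ofHom (Polynomial.C : L →+* L[X])) ≫ b') = b'),
        sh _ (h u) ≫ q = sh _ (h 0) ≫ q := by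
  classical
  obtain ⟨S', f, -, hs, -, hloc⟩ := D.hT
  obtain ⟨s', hs'⟩ := f.surjective (b (IsLocalRing.closedPoint K))
  obtain ⟨z, hz, -⟩ := Scheme.Pullback.exists_preimage_pullback (f := f) (g := b) s' (IsLocalRing.closedPoint K) hs'
  let κ := (pullback f b).residueField z
  let L := AlgebraicClosure κ
  let e : Spec (CommRingCat.of L) ⟶ pullback f b :=
    Spec.map (CommRingCat.ofHom (algebraMap κ L)) ≫ (pullback f b).fromSpecResidueField z
  let θ : K →+* L := (Spec.preimage (e ≫ pullback.snd f b)).hom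
  have hθ : Spec.map (CommRingCat.ofHom θ) = e ≫ pullback.snd f b := by
    rw [CommRingCat.ofHom_hom, Spec.map_preimage]
  obtain ⟨U, hU, r, ⟨eiso⟩⟩ := hloc s'
  have hez : ∀ x, e x = z := fun x => by
    have hm : e x ∈ Set.range ((pullback f b).fromSpecResidueField z) :=
      ⟨Spec.map (CommRingCat.ofHom (algebraMap κ L)) x, rfl⟩
    rwa [Scheme.range_fromSpecResidueField, Set.mem_singleton_iff] at hm
  have hrange : Set.range (e ≫ pullback.fst f b) ⊆ Set.range U.ι := by
    rintro _ ⟨x, rfl⟩
    rw [Scheme.Opens.range_ι]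
    show pullback.fst f b (e x) ∈ (U : Set S')
    rw [hez, hz]
    exact hU
  let j : Spec (CommRingCat.of L) ⟶ (U : Scheme.{u}) := IsOpenImmersion.lift U.ι (e ≫ pullback.fst f b) hrange
  have hj : j ≫ U.ι ≫ f = Spec.map (CommRingCat.ofHom θ) ≫ b := by
    rw [hθ, ← Category.assoc, IsOpenImmersion.lift_fac, Category.assoc, Category.assoc, pullback.condition]
    simp only [e, Category.assoc]
  let g := U.ι ≫ f
  refine ⟨L, inferInstance, θ, j ≫ g, inferInstance, hj.symm, ?_, ?_⟩
  all_goals
    let ψ := eiso.hom.hom.hom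
    haveI : IsMonHom ψ := eiso.hom.hom.isMonHom_hom
    haveI : IsIso ψ := ((Grp.forget _).mapIso eiso).isIso_hom
  · let M := Multiplicative (Fin r → ℤ)
    let R := MonoidAlgebra L M
    let unv : DSPtsLib.CoordM.{u} (Fin r → ℤ) →+* R :=
      MonoidAlgebra.mapRingHom _ ((algebraMap ℤ L).comp ULift.ringEquiv.toRingHom)
    have hunv : ∀ n : M, unv (MonoidAlgebra.single n 1) = (MonoidAlgebra.single n (1 : L) : R) := fun n =>
      (MonoidAlgebra.mapRingHom_single _ n 1).trans (congrArg _ (map_one _))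
    let jR : Spec (CommRingCat.of R) ⟶ (U : Scheme.{u}) :=
      Spec.map (CommRingCat.ofHom (MonoidAlgebra.singleOneRingHom : L →+* R)) ≫ j
    let w : R := splitVal g ψ D.α jR unv
    have hw : IsUnit w := (GmPts.unitOfPt (splitPt g ψ jR unv ≫ D.α)).isUnit.map (sval (jR ≫ g))
    obtain ⟨m, c, hmc⟩ := exists_eq_single_of_isUnit hw
    -- evaluation at a point with characters `χ`
    have hev : ∀ χ : M →* L, ∃ s : tst (j ≫ g) ⟶ T, (D.cv (j ≫ g) s : L) = c * χ m := by
      intro χ
      let σ : R →+* L := (MonoidAlgebra.lift L L M χ).toRingHom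
      have hσ : Spec.map (CommRingCat.ofHom σ) ≫ jR = j := by
        have e : σ.comp (MonoidAlgebra.singleOneRingHom : L →+* R) = RingHom.id L := RingHom.ext fun a =>
          (MonoidAlgebra.lift_single χ (1 : M) a).trans (by simp)
        simp only [jR, ← Category.assoc, ← Spec.map_comp, ← CommRingCat.ofHom_comp, e]
        exact (congrArg (· ≫ j) (Spec.map_id _)).trans (Category.id_comp _)
      refine ⟨splitPt g ψ j (σ.comp unv), ?_⟩
      refine (splitVal_comp g ψ D.α jR σ j hσ unv).trans ?_
      show σ w = _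
      rw [hmc]
      exact (MonoidAlgebra.lift_single χ m c).trans (by simp)
    have hc : c = 1 := by
      have h1 := splitVal_one g ψ D.α j (((MonoidAlgebra.lift L L M (1 : M →* L)).toRingHom).comp unv) fun n => by
        rw [RingHom.comp_apply, hunv]
        exact (MonoidAlgebra.lift_single (1 : M →* L) n (1 : L)).trans (by simp)
      rw [splitVal_comp g ψ D.α jR _ j (by
        have e : ((MonoidAlgebra.lift L L M (1 : M →* L)).toRingHom).comp
            (MonoidAlgebra.singleOneRingHom : L →+* R) = RingHom.id L := RingHom.ext fun a =>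
          (MonoidAlgebra.lift_single (1 : M →* L) (1 : M) a).trans (by simp)
        simp only [jR, ← Category.assoc, ← Spec.map_comp, ← CommRingCat.ofHom_comp, e]
        exact (congrArg (· ≫ j) (Spec.map_id _)).trans (Category.id_comp _)) unv] at h1
      have h2 : (MonoidAlgebra.lift L L M (1 : M →* L)) w = c := by
        rw [hmc]
        exact (MonoidAlgebra.lift_single (1 : M →* L) m c).trans (by simp)
      exact h2.symm.trans h1
    have hm : ∃ i₀, m.toAdd i₀ ≠ 0 := by
      by_contra! hall
      have hm1 : m = 1 := Multiplicative.toAdd.injective (funext hall)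
      refine one_ne_zero (α := L) (eq_zero_chart D.α D.hα g ψ j one_pos 1 fun B _ φ b'' hb s => ?_)
      rw [← Category.assoc] at hb
      subst hb
      let jB : Spec (CommRingCat.of B) ⟶ (U : Scheme.{u}) := Spec.map (CommRingCat.ofHom φ) ≫ j
      obtain ⟨f', rfl⟩ := exists_eq_splitPt g ψ jB s
      let fM : M →* B := (f'.toMonoidHom).comp (MonoidAlgebra.of _ M)
      let σ : R →+* B := MonoidAlgebra.liftNCRingHom φ fM fun _ _ => Commute.all _ _
      have hσ : Spec.map (CommRingCat.ofHom σ) ≫ jR = jB := by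
        have e : σ.comp (MonoidAlgebra.singleOneRingHom : L →+* R) = φ := RingHom.ext fun a =>
          (MonoidAlgebra.liftNCRingHom_single φ fM (fun _ _ => Commute.all _ _) (1 : M) a).trans
            (by rw [map_one, _root_.mul_one])
        simp only [jR, jB, ← Category.assoc, ← Spec.map_comp, ← CommRingCat.ofHom_comp, e]
      have hfσ : σ.comp unv = f' := MonoidAlgebra.ringHom_ext
        (fun n => RingHom.congr_fun (DSPtsLib.ulift_ringHom_ext
          ((σ.comp unv).comp MonoidAlgebra.singleOneRingHom) (f'.comp MonoidAlgebra.singleOneRingHom)) n)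
        (fun n => by
          show σ (unv (MonoidAlgebra.single n 1)) = _
          rw [hunv]
          exact (MonoidAlgebra.liftNCRingHom_single φ fM _ n 1).trans (by rw [map_one, _root_.one_mul]; rfl))
      have h2 : splitVal g ψ D.α jB f' = 1 := by
        rw [← hfσ, splitVal_comp g ψ D.α jR σ jB hσ unv]
        show σ w = 1
        rw [hmc, hc, hm1, ← MonoidAlgebra.one_def, map_one]
      rw [map_one, _root_.one_mul, pow_one, sub_eq_zero]
      exact h2
    obtain ⟨i₀, hi₀⟩ := hm
    intro v
    have hd : 0 < (m.toAdd i₀).natAbs := Int.natAbs_pos.2 hi₀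
    obtain ⟨y, hy, hyv⟩ : ∃ y : L, y ≠ 0 ∧ y ^ (m.toAdd i₀) = (v : L) := by
      rcases Int.natAbs_eq (m.toAdd i₀) with he | he
      · obtain ⟨y, hy⟩ := IsAlgClosed.exists_pow_nat_eq (v : L) hd
        exact ⟨y, fun h0 => v.ne_zero (by rw [← hy, h0, zero_pow hd.ne']), by rw [he, zpow_natCast, hy]⟩
      · obtain ⟨y, hy⟩ := IsAlgClosed.exists_pow_nat_eq ((v : L)⁻¹) hd
        exact ⟨y, fun h0 => inv_ne_zero v.ne_zero (by rw [← hy, h0, zero_pow hd.ne']),
          by rw [he, zpow_neg, zpow_natCast, hy, inv_inv]⟩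
    let χ : M →* L :=
      { toFun := fun n => y ^ (n.toAdd i₀)
        map_one' := by simp
        map_mul' := fun a a' => zpow_add₀ hy (a.toAdd i₀) (a'.toAdd i₀) }
    obtain ⟨s, hs⟩ := hev χ
    refine ⟨s, Units.ext (hs.trans ?_)⟩
    rw [hc, _root_.one_mul]
    exact hyv
  · intro q u h
    let jY : Spec (CommRingCat.of L[X]) ⟶ (U : Scheme.{u}) :=
      Spec.map (CommRingCat.ofHom (Polynomial.C : L →+* L[X])) ≫ j
    have h0 : Spec.map (CommRingCat.ofHom (RingHom.id L[X])) ≫
        (Spec.map (CommRingCat.ofHom (Polynomial.C : L →+* L[X])) ≫ (j ≫ g)) = jY ≫ g := by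
      simp only [jY, Category.assoc, CommRingCat.ofHom_id, Spec.map_id, Category.id_comp]
    obtain ⟨f', hf'⟩ := exists_eq_splitPt g ψ jY (sh _ h0 ≫ q)
    have hev : ∀ v : L, sh _ (h v) ≫ q =
        splitPt g ψ j ((Polynomial.evalRingHom v).comp f') := by
      intro v
      have hv : Spec.map (CommRingCat.ofHom (Polynomial.evalRingHom v : L[X] →+* L)) ≫ jY = j := by
        simp only [jY, ← Category.assoc, ← Spec.map_comp, ← CommRingCat.ofHom_comp,
          show (Polynomial.evalRingHom v).comp (Polynomial.C : L →+* L[X]) = RingHom.id L from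
            RingHom.ext fun a => by simp]
        simp
      have hv' : Spec.map (CommRingCat.ofHom (Polynomial.evalRingHom v : L[X] →+* L)) ≫ (jY ≫ g) = j ≫ g := by
        rw [← Category.assoc, hv]
      rw [← splitPt_comp g ψ jY (Polynomial.evalRingHom v) j hv f' hv', ← hf']
      refine (congrArg (fun k => k ≫ q) ?_).trans (Category.assoc _ _ _)
      ext1
      simp [specHom]
    rw [hev u, hev 0]
    congr 1
    refine MonoidAlgebra.ringHom_ext (fun n => RingHom.congr_fun (DSPtsLib.ulift_ringHom_ext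
      (((Polynomial.evalRingHom u).comp f').comp MonoidAlgebra.singleOneRingHom)
      (((Polynomial.evalRingHom 0).comp f').comp MonoidAlgebra.singleOneRingHom)) n) fun n => ?_
    have hu : IsUnit (f' (MonoidAlgebra.single n 1)) :=
      (Group.isUnit n).map (f'.toMonoidHom.comp (MonoidAlgebra.of _ _))
    obtain ⟨c, -, hc⟩ := Polynomial.isUnit_iff.1 hu
    simp [← hc]

end Closure

section Good

variable {L : Type u} [Field L] {b : Spec (CommRingCat.of L) ⟶ S}

/-- The rank-one system of points with values in a field. -/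
def fsys (hc : Function.Surjective (D.cv b)) : FSys L (tst b ⟶ G) (tst b ⟶ T) where
  p := D.P b
  m := D.M b
  I := MonoidHom.mk' (fun t => t ≫ D.i) fun s t => MonObj.mul_comp s t D.i
  c := D.cv b
  c_surj := hc
  p_add := D.P_add b
  m_add := D.M_add b
  conj_p := D.conj_P b
  conj_m := D.conj_M b
  ext _ _ _ _ _ _ h := D.ext b h

variable (b) in
/-- The base of the line. -/
abbrev lBase : Spec (CommRingCat.of L[X]) ⟶ S := Spec.map (CommRingCat.ofHom (Polynomial.C : L →+* L[X])) ≫ b

theorem lBase_eval (v : L) :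
    Spec.map (CommRingCat.ofHom (Polynomial.evalRingHom v : L[X] →+* L)) ≫ lBase b = b := by
  rw [lBase, ← Category.assoc, ← Spec.map_comp, ← CommRingCat.ofHom_comp,
    show (Polynomial.evalRingHom v).comp (Polynomial.C : L →+* L[X]) = RingHom.id L from RingHom.ext fun r => by simp]
  simp

/-- Membership along a line is open. -/
theorem exists_open_line (px py : L[X]) (h0 : D.Mem b (px.eval 0) (py.eval 0)) :
    ∃ h : L[X], h.eval 0 ≠ 0 ∧ ∀ (K : Type u) [Field K] (φ : L[X] →+* K), φ h ≠ 0 →
      D.Mem (Spec.map (CommRingCat.ofHom φ) ≫ lBase b) (φ px) (φ py) := by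
  haveI := D.hΩ
  let k : tst (lBase b) ⟶ G := D.P (lBase b) px * D.M (lBase b) py
  let V : (Spec (CommRingCat.of L[X])).Opens := k.left ⁻¹ᵁ (cellMap D.i D.pp D.pm).left.opensRange
  let x0 : Spec (CommRingCat.of L[X]) :=
    Spec.map (CommRingCat.ofHom (Polynomial.evalRingHom (0 : L))) (IsLocalRing.closedPoint L)
  have hx0 : x0 ∈ V := by
    obtain ⟨a, t, d, hc⟩ := h0
    have h1 : sh _ (lBase_eval (b := b) 0) ≫ k =
        lift (lift (gp b a) t) (gp b d) ≫ cellMap D.i D.pp D.pm := by
      rw [cell_comp, MonObj.comp_mul, D.sh_P, D.sh_M]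
      exact hc
    exact ⟨_, (congrArg (fun l : tst b ⟶ G => l.left (IsLocalRing.closedPoint L)) h1).symm⟩
  obtain ⟨_, ⟨h, rfl⟩, hg0, hgV⟩ :=
    PrimeSpectrum.isTopologicalBasis_basic_opens.exists_subset_of_mem_open hx0 V.isOpen
  refine ⟨h, fun he => hg0 (show Polynomial.evalRingHom 0 h ∈ IsLocalRing.maximalIdeal L by
    rw [Polynomial.coe_evalRingHom, he]; exact zero_mem _), fun K _ φ hφ => ?_⟩
  obtain ⟨a, t, d, e⟩ := exists_coords_of_mem (K := K) D.hΩ (D.P _ (φ px) * D.M _ (φ py)) (by
    have h1 : sh φ (rfl : Spec.map (CommRingCat.ofHom φ) ≫ lBase b = _) ≫ k =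
        D.P _ (φ px) * D.M _ (φ py) := by
      rw [MonObj.comp_mul, D.sh_P, D.sh_M]
    rw [← h1]
    refine hgV ?_
    show φ h ∉ IsLocalRing.maximalIdeal K
    rw [IsLocalRing.maximalIdeal_eq_bot]
    exact hφ)
  refine ⟨sv _ (Red.gaFn a), t, sv _ (Red.gaFn d), ?_⟩
  unfold Crd
  rw [P, M, M, P, gp_sv, gp_sv]
  exact e

variable [IsAlgClosed L]

/-- A line all whose rational points are in the cell is in the cell. -/
theorem line_all (px py : L[X]) (hall : ∀ u, D.Mem b (px.eval u) (py.eval u)) : D.Mem (lBase b) px py := by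
  obtain ⟨h, h0, hh⟩ := D.exists_open_line px py (hall 0)
  refine D.mem_of_fields _ _ _ fun K _ φ => ?_
  by_cases hφ : φ h = 0
  · have hroot : (h.map (φ.comp Polynomial.C)).IsRoot (φ Polynomial.X) := by
      rw [Polynomial.IsRoot.def, Polynomial.eval_map, ← hφ]
      conv_rhs => rw [← Polynomial.eval₂_C_X (p := h), Polynomial.hom_eval₂]
    obtain ⟨u, hu⟩ := (IsAlgClosed.splits h).mem_range_of_isRoot
      (fun e => h0 (by simp [e])) hroot
    have hφe : φ = (φ.comp Polynomial.C).comp (Polynomial.evalRingHom u) :=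
      Polynomial.ringHom_ext (fun r => by simp) (by simp [← hu])
    obtain ⟨a, t, d, hc⟩ := hall u
    have hb : Spec.map (CommRingCat.ofHom (φ.comp Polynomial.C)) ≫ b =
        Spec.map (CommRingCat.ofHom φ) ≫ lBase b := by
      rw [CommRingCat.ofHom_comp, Spec.map_comp, Category.assoc]
    have e : ∀ p : L[X], φ p = φ (Polynomial.C (p.eval u)) := fun p =>
      RingHom.congr_fun hφe p
    rw [e px, e py]
    exact ⟨_, _, _, hc.map (φ.comp Polynomial.C) hb⟩
  · exact hh K φ hφ

/-- The dichotomy on a good field. -/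
theorem good_cases (hc : Function.Surjective (D.cv b))
    (hline : ∀ (q : tst (lBase b) ⟶ T) (u : L)
      (h : ∀ v : L, Spec.map (CommRingCat.ofHom (Polynomial.evalRingHom v : L[X] →+* L)) ≫ lBase b = b),
        sh _ (h u) ≫ q = sh _ (h 0) ≫ q) :
    (D.der b = 0 ∧ ∀ x y, D.Crd b x y y 1 x) ∨ (D.der b ≠ 0 ∧ ∀ x y,
      (D.Mem b x y ↔ 1 + D.der b * x * y ≠ 0) ∧
      ∀ a t d, D.Crd b x y a t d → d * (1 + D.der b * x * y) = x ∧ a * (1 + D.der b * x * y) = y) := by
  let Φ := D.fsys hc
  have hmem : ∀ x y, D.Mem b x y ↔ Φ.Mem x y := fun x y => Iff.rfl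
  by_cases hne : ∃ u, ¬ Φ.Mem 1 u
  · -- one point missing
    obtain ⟨h, h0, hh⟩ := D.exists_open_line (b := b) 1 Polynomial.X
      (by rw [Polynomial.eval_one, Polynomial.eval_X]; exact ⟨_, _, _, D.crd_zero_right b 1⟩)
    have hh' : h ≠ 0 := fun e => h0 (by simp [e])
    have hfin : {u : L | ¬ Φ.Mem 1 u}.Finite := by
      refine (Polynomial.finite_setOfPred_isRoot hh').subset fun u hu => ?_
      by_contra hr
      refine hu ((hmem 1 u).1 ?_)
      have := hh L (Polynomial.evalRingHom u) hr
      rw [lBase_eval, map_one, Polynomial.coe_evalRingHom, Polynomial.eval_X] at this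
      exact this
    obtain ⟨a, ha, hrule⟩ := Φ.single hfin hne
    let R := Localization.Away h
    let ι₀ : L[X] →+* R := algebraMap _ _
    let bR : Spec (CommRingCat.of R) ⟶ S := Spec.map (CommRingCat.ofHom ι₀) ≫ lBase b
    obtain ⟨aR, tR, dR, hR⟩ : D.Mem bR 1 (ι₀ Polynomial.X) := D.mem_of_fields _ _ _ fun K _ φ => by
      have h1 := hh K (φ.comp ι₀) (((IsLocalization.Away.algebraMap_isUnit (S := R) h).map φ).ne_zero)
      rw [map_one] at h1 ⊢
      rw [RingHom.comp_apply, CommRingCat.ofHom_comp, Spec.map_comp, Category.assoc] at h1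
      exact h1
    have key : dR * (1 + ι₀ (Polynomial.C a) * ι₀ Polynomial.X) - 1 = 0 := by
      refine eq_zero_of_evals hh' _ fun u hu => ?_
      set σ := IsLocalization.Away.lift (S := Localization.Away h) h (g := Polynomial.evalRingHom u) hu
      have hσ : ∀ p, σ (ι₀ p) = p.eval u := fun p => IsLocalization.Away.lift_eq h hu p
      have hb : Spec.map (CommRingCat.ofHom σ) ≫ bR = b := by
        rw [show bR = Spec.map (CommRingCat.ofHom ι₀) ≫ lBase b from rfl, ← Category.assoc, ← Spec.map_comp,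
          ← CommRingCat.ofHom_comp, show σ.comp ι₀ = Polynomial.evalRingHom u from RingHom.ext hσ, lBase_eval]
      have h1 := hR.map σ hb
      rw [map_one, hσ, Polynomial.eval_X] at h1
      have h2 := ((hrule 1 u).2 _ _ _ h1).1
      rw [map_sub, map_mul, map_add, map_mul, map_one, hσ, hσ, Polynomial.eval_C, Polynomial.eval_X]
      linear_combination h2
    have hder : D.der b = a := by
      let δ : L[X] →+* DualNumber L := Polynomial.eval₂RingHom (dinl L) DualNumber.eps
      have hδh : IsUnit (δ h) := by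
        rw [TrivSqZeroExt.isUnit_iff_isUnit_fst]
        have e : ((TrivSqZeroExt.fstHom L L L).toRingHom.comp δ) = Polynomial.evalRingHom 0 :=
          Polynomial.ringHom_ext (fun r => by simp [δ, dinl]) (by simp [δ])
        have e' : (δ h).fst = h.eval 0 := RingHom.congr_fun e h
        rw [e']
        exact isUnit_iff_ne_zero.2 h0
      let σ := IsLocalization.Away.lift (S := R) h (g := δ) hδh
      have hσ : ∀ p, σ (ι₀ p) = δ p := fun p => IsLocalization.Away.lift_eq h hδh p
      have hb : Spec.map (CommRingCat.ofHom σ) ≫ bR = dBase b := by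
        rw [show bR = Spec.map (CommRingCat.ofHom ι₀) ≫ lBase b from rfl, ← Category.assoc, ← Spec.map_comp,
          ← CommRingCat.ofHom_comp, show σ.comp ι₀ = δ from RingHom.ext hσ, lBase, ← Category.assoc, ← Spec.map_comp,
          ← CommRingCat.ofHom_comp,
          show δ.comp Polynomial.C = dinl L from RingHom.ext fun r => by simp [δ]]
        rfl
      have h1 := hR.map σ hb
      rw [map_one, hσ, show δ Polynomial.X = DualNumber.eps by simp [δ]] at h1
      have h2 := congrArg σ key
      rw [map_sub, map_mul, map_add, map_mul, map_one, map_zero, hσ, hσ,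
        show δ Polynomial.X = DualNumber.eps by simp [δ], show δ (Polynomial.C a) = dinl L a by simp [δ]] at h2
      have hf := congrArg TrivSqZeroExt.fst h2
      have hs := congrArg TrivSqZeroExt.snd h2
      simp only [dinl, TrivSqZeroExt.inlHom_apply, TrivSqZeroExt.fst_sub, TrivSqZeroExt.fst_mul,
        TrivSqZeroExt.fst_add, TrivSqZeroExt.fst_one, TrivSqZeroExt.fst_inl, TrivSqZeroExt.fst_zero,
        DualNumber.fst_eps, mul_zero, add_zero, mul_one, sub_eq_zero] at hf
      simp only [dinl, TrivSqZeroExt.inlHom_apply, TrivSqZeroExt.snd_sub, DualNumber.snd_mul,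
        TrivSqZeroExt.fst_add, TrivSqZeroExt.snd_add, TrivSqZeroExt.fst_one, TrivSqZeroExt.snd_one,
        TrivSqZeroExt.fst_inl, TrivSqZeroExt.snd_inl, TrivSqZeroExt.snd_zero, DualNumber.fst_eps,
        DualNumber.snd_eps, TrivSqZeroExt.fst_mul, hf] at hs
      rw [D.der_eq h1]
      linear_combination -hs
    exact Or.inr ⟨hder ▸ ha, fun x y => by rw [hder]; exact hrule x y⟩
  · -- the whole line is in the cell
    push Not at hne
    have hmemA : ∀ u, D.Mem b ((1 : L[X]).eval u) (Polynomial.X.eval u) := fun u => by rw [Polynomial.eval_one, Polynomial.eval_X]; exact hne u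
    have hmemB : ∀ u, D.Mem b (Polynomial.X.eval u) ((1 : L[X]).eval u) := fun u => by
      simp only [Polynomial.eval_X, Polynomial.eval_one]
      rcases eq_or_ne u 0 with rfl | hu
      · exact ⟨_, _, _, D.crd_zero_left b 1⟩
      · exact (FSys.mem_iff_one (Φ := Φ) hu).2 (hne _)
    obtain ⟨a₁, t₁, d₁, h₁⟩ := D.line_all 1 Polynomial.X hmemA
    obtain ⟨a₂, t₂, d₂, h₂⟩ := D.line_all Polynomial.X 1 hmemB
    have hev₁ : ∀ u, D.Crd b 1 u (a₁.eval u) (sh _ (lBase_eval u) ≫ t₁) (d₁.eval u) := fun u => by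
      simpa using h₁.map (Polynomial.evalRingHom u) (lBase_eval u)
    have hev₂ : ∀ u, D.Crd b u 1 (a₂.eval u) (sh _ (lBase_eval u) ≫ t₂) (d₂.eval u) := fun u => by
      simpa using h₂.map (Polynomial.evalRingHom u) (lBase_eval u)
    have hcomm := FSys.commute_of_all (Φ := Φ) hne d₁ a₂
      (fun u a t d h => (FSys.Crd.unique (Φ := Φ) h (hev₁ u)).2.2)
      (fun u a t d h => (FSys.Crd.unique (Φ := Φ) h (hev₂ u)).1)
      (fun u a t d h => by
        rw [(FSys.Crd.unique (Φ := Φ) h (hev₁ u)).2.1, hline t₁ u lBase_eval]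
        exact ((hev₁ 0).unique (D.crd_zero_right b 1)).2.1)
    refine Or.inl ⟨?_, hcomm⟩
    have hd : d₁ = 1 := Polynomial.funext fun u => by
      rw [((hev₁ u).unique (hcomm 1 u)).2.2, Polynomial.eval_one]
    let δ : L[X] →+* DualNumber L := Polynomial.eval₂RingHom (dinl L) DualNumber.eps
    have hb : Spec.map (CommRingCat.ofHom δ) ≫ lBase b = dBase b := by
      rw [lBase, ← Category.assoc, ← Spec.map_comp, ← CommRingCat.ofHom_comp,
        show δ.comp Polynomial.C = dinl L from RingHom.ext fun r => by simp [δ]]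
      rfl
    have h1 := h₁.map δ hb
    rw [map_one, show δ Polynomial.X = DualNumber.eps by simp [δ], hd, map_one] at h1
    simpa using D.der_eq h1

end Good

section Fields

variable {K : Type u} [Field K]

/-- The dichotomy on any field. -/
theorem field_cases (b : Spec (CommRingCat.of K) ⟶ S) :
    (D.der b = 0 ∧ ∀ x y, D.Crd b x y y 1 x) ∨ (D.der b ≠ 0 ∧ ∀ x y,
      (D.Mem b x y ↔ 1 + D.der b * x * y ≠ 0) ∧
      ∀ a t d, D.Crd b x y a t d → d * (1 + D.der b * x * y) = x ∧ a * (1 + D.der b * x * y) = y) := by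
  obtain ⟨L, _, θ, b', hL, hb, hc, hline⟩ := D.exists_good b
  haveI := hL
  rcases D.good_cases hc hline with ⟨h0, hcomm⟩ | ⟨h0, hrule⟩
  · refine Or.inl ⟨θ.injective (by rw [D.der_map θ hb, h0, map_zero]), fun x y => ?_⟩
    obtain ⟨a, t, d, hcrd⟩ := D.mem_of_extension θ hb ⟨_, _, _, hcomm (θ x) (θ y)⟩
    obtain ⟨e1, e2, e3⟩ := (hcrd.map θ hb).unique (hcomm (θ x) (θ y))
    haveI := D.isAffineHom_T
    have ht : t = 1 := RankOne.eq_of_injective (A := CommRingCat.of K) (B := CommRingCat.of L) θ hb θ.injective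
      (e2.trans (MonObj.comp_one _).symm)
    rwa [θ.injective e1, θ.injective e3, ht] at hcrd
  · refine Or.inr ⟨fun h => h0 (by rw [← D.der_map θ hb, h, map_zero]), fun x y => ⟨⟨fun hm => ?_, fun hne => ?_⟩, ?_⟩⟩
    · obtain ⟨a, t, d, hcrd⟩ := hm
      have := (hrule (θ x) (θ y)).1.1 ⟨_, _, _, hcrd.map θ hb⟩
      intro h
      apply this
      rw [← D.der_map θ hb, ← map_mul, ← map_mul, ← map_one θ, ← map_add, h, map_zero]
    · refine D.mem_of_extension θ hb ((hrule _ _).1.2 fun h => hne (θ.injective ?_))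
      rw [map_add, map_mul, map_mul, map_one, map_zero, D.der_map θ hb]
      exact h
    · intro a t d hcrd
      obtain ⟨e1, e2⟩ := (hrule (θ x) (θ y)).2 _ _ _ (hcrd.map θ hb)
      refine ⟨θ.injective ?_, θ.injective ?_⟩ <;> rw [map_mul, map_add, map_mul, map_mul, map_one, D.der_map θ hb]
      exacts [e1, e2]

/-- Non-commutation on all geometric fibres. -/
def NonComm : Prop :=
  ∀ s : S, ∃ (X : Over (Spec (CommRingCat.of (AlgebraicClosure (S.residueField s)))))
    (x y : X ⟶ Red.bc (Red.geomPt s) (Red.Ga S)),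
    (x ≫ (Over.pullback (Red.geomPt s)).map D.pp) * (y ≫ (Over.pullback (Red.geomPt s)).map D.pm) ≠
      (y ≫ (Over.pullback (Red.geomPt s)).map D.pm) * (x ≫ (Over.pullback (Red.geomPt s)).map D.pp)

variable (hnc : D.NonComm)
include hnc

/-- The constant does not vanish. -/
theorem der_ne_zero (b : Spec (CommRingCat.of K) ⟶ S) : D.der b ≠ 0 := by
  intro h0
  let s := b (IsLocalRing.closedPoint K)
  let L := AlgebraicClosure K
  let bL : Spec (CommRingCat.of L) ⟶ S := Spec.map (CommRingCat.ofHom (algebraMap K L)) ≫ b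
  have hL0 : D.der bL = 0 := by rw [← D.der_map (algebraMap K L) rfl, h0, map_zero]
  let k₀ := S.residueField s
  let K₀ := AlgebraicClosure k₀
  obtain ⟨φ, hφ⟩ : ∃ φ : k₀ →+* K, b = Spec.map (CommRingCat.ofHom φ) ≫ S.fromSpecResidueField s :=
    ⟨(Scheme.descResidueField (Scheme.stalkClosedPointTo b)).hom,
      (Scheme.descResidueField_stalkClosedPointTo_fromSpecResidueField (K := K) (X := S) b).symm⟩
  let : Algebra k₀ L := ((algebraMap K L).comp φ).toAlgebra
  let ψ : K₀ →ₐ[k₀] L := IsAlgClosed.lift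
  have hq : Spec.map (CommRingCat.ofHom ψ.toRingHom) ≫ Red.geomPt s = bL := by
    show _ = Spec.map (CommRingCat.ofHom (algebraMap K L)) ≫ b
    rw [hφ, ← Category.assoc, ← Category.assoc, ← Spec.map_comp, ← Spec.map_comp, ← CommRingCat.ofHom_comp,
      ← CommRingCat.ofHom_comp]
    congr 3
    exact RingHom.ext fun r => ψ.commutes r
  let q : Spec (CommRingCat.of K₀) ⟶ S := Red.geomPt s
  have hq0 : D.der q = 0 := ψ.toRingHom.injective (by rw [D.der_map ψ.toRingHom hq, hL0, map_zero])
  -- the universal pair of points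
  let R := MvPolynomial (Fin 2) K₀
  let bR : Spec (CommRingCat.of R) ⟶ S := Spec.map (CommRingCat.ofHom (MvPolynomial.C : K₀ →+* R)) ≫ q
  have hder : ∀ (C : Type u) [Field C] (χ : R →+* C), D.der (Spec.map (CommRingCat.ofHom χ) ≫ bR) = 0 := by
    intro C _ χ
    rw [← D.der_map (χ.comp (MvPolynomial.C : K₀ →+* R))
      (by rw [CommRingCat.ofHom_comp, Spec.map_comp, Category.assoc]), hq0, map_zero]
  have hcase : ∀ (C : Type u) [Field C] (χ : R →+* C) (x y : C),
      D.Crd (Spec.map (CommRingCat.ofHom χ) ≫ bR) x y y 1 x := fun C _ χ x y =>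
    ((D.field_cases (Spec.map (CommRingCat.ofHom χ) ≫ bR)).resolve_right (fun h => h.1 (hder C χ))).2 x y
  obtain ⟨a, t, d, hR⟩ := D.mem_of_fields bR (MvPolynomial.X 0) (MvPolynomial.X 1) fun C _ χ => ⟨_, _, _, hcase C χ _ _⟩
  let ι₀ : R →+* FractionRing R := algebraMap _ _
  have hinj : Function.Injective ι₀ := IsFractionRing.injective R _
  obtain ⟨e1, e2, e3⟩ := (hR.map ι₀ rfl).unique (hcase _ ι₀ _ _)
  haveI := D.isAffineHom_T
  have ht : t = 1 := RankOne.eq_of_injective (A := CommRingCat.of R) (B := CommRingCat.of (FractionRing R))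
    ι₀ rfl hinj (e2.trans (MonObj.comp_one _).symm)
  rw [hinj e1, hinj e3, ht] at hR
  obtain ⟨X, x, y, hne⟩ := hnc s
  refine hne ((DSPtsLib.theta_bijective q).injective ?_)
  rw [DSPtsLib.theta_mul, DSPtsLib.theta_mul, theta_map, theta_map]
  refine ext_spec fun A bA j => ?_
  let η₀ : Spec A ⟶ Spec (CommRingCat.of K₀) := j.left ≫ X.hom
  let φA : K₀ →+* A := (Spec.preimage η₀).hom
  let χ : R →+* A := MvPolynomial.eval₂Hom φA
    ![sv bA (Red.gaFn (j ≫ DSPtsLib.theta q x)), sv bA (Red.gaFn (j ≫ DSPtsLib.theta q y))]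
  have hb : Spec.map (CommRingCat.ofHom χ) ≫ bR = bA := by
    rw [show bR = Spec.map (CommRingCat.ofHom (MvPolynomial.C : K₀ →+* R)) ≫ q from rfl, ← Category.assoc,
      ← Spec.map_comp, ← CommRingCat.ofHom_comp,
      show χ.comp (MvPolynomial.C : K₀ →+* R) = φA from RingHom.ext fun r => MvPolynomial.eval₂Hom_C φA _ r,
      CommRingCat.ofHom_hom, Spec.map_preimage]
    exact (Category.assoc _ _ _).trans (Over.w j)
  have h1 := hR.map χ hb
  rw [show χ (MvPolynomial.X 0) = sv bA (Red.gaFn (j ≫ DSPtsLib.theta q x)) from MvPolynomial.eval₂Hom_X' φA _ 0,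
    show χ (MvPolynomial.X 1) = sv bA (Red.gaFn (j ≫ DSPtsLib.theta q y)) from MvPolynomial.eval₂Hom_X' φA _ 1, MonObj.comp_one] at h1
  unfold Crd at h1
  rw [P, M, gp_sv, gp_sv, MonObj.one_comp, _root_.mul_one, Category.assoc, Category.assoc] at h1
  rw [MonObj.comp_mul, MonObj.comp_mul]
  exact h1

/-- Membership in the cell and the coordinates, on a field. -/
theorem field_rule (b : Spec (CommRingCat.of K) ⟶ S) (x y : K) :
    (D.Mem b x y ↔ 1 + D.der b * x * y ≠ 0) ∧
      ∀ a t d, D.Crd b x y a t d → d * (1 + D.der b * x * y) = x ∧ a * (1 + D.der b * x * y) = y :=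
  ((D.field_cases b).resolve_left fun h => D.der_ne_zero hnc b h.1).2 x y

end Fields

end RSys

end Groth.Agent.Red23Lib.Rule
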