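import Mathlib.Algebra.Polynomial.Laurent
import Mathlib.RingTheory.Noetherian.Nilpotent
import Mathlib.RingTheory.Ideal.Quotient.Operations
import Mathlib.Tactic.LinearCombination
import Mathlib.Tactic.Ring

/-!
# A functional equation for Laurent polynomials
-/

set_option autoImplicit false

universe u v w

open LaurentPolynomial

noncomputable section

namespace Groth.Agent.Red23Lib.Rule

section Ev

variable {R : Type u} [CommRing R] {S : Type v} [CommRing S]

/-- Evaluation of a Laurent polynomial at a unit. -/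
def ev (f : R →+* S) (x : Sˣ) : R[T;T⁻¹] →+* S := LaurentPolynomial.eval₂ f x

variable (f : R →+* S) (x : Sˣ)

@[simp] theorem ev_C (r : R) : ev f x (C r) = f r := eval₂_C f x r

@[simp] theorem ev_T (n : ℤ) : ev f x (T n) = ((x ^ n : Sˣ) : S) := eval₂_T f x n

theorem lhom_ext {g g' : R[T;T⁻¹] →+* S} (hC : ∀ r, g (C r) = g' (C r)) (hT : g (T 1) = g' (T 1)) : g = g' := by
  have h : ∀ n : ℤ, g (T n) = g' (T n) := fun n => by
    have hn : ∀ m : ℕ, g (T m) = g' (T m) := fun m => by
      have : (T (m : ℤ) : R[T;T⁻¹]) = T 1 ^ m := by rw [T_pow, mul_one]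
      rw [this, map_pow, map_pow, hT]
    obtain ⟨m, rfl | rfl⟩ := Int.eq_nat_or_neg n
    · exact hn m
    · have e : ∀ k : R[T;T⁻¹] →+* S, k (T (-(m : ℤ))) * k (T (m : ℤ)) = 1 := fun k => by
        rw [← map_mul, ← T_add, neg_add_cancel, T_zero, map_one]
      have h' := e g'
      rw [← hn m] at h'
      exact left_inv_eq_right_inv (e g) ((mul_comm _ _).trans h')
  refine RingHom.ext fun p => ?_
  induction p using LaurentPolynomial.induction_on' with
  | add p q hp hq => rw [map_add, map_add, hp, hq]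
  | C_mul_T n a => rw [map_mul, map_mul, hC, h]

theorem comp_ev {U : Type w} [CommRing U] (g : S →+* U) :
    g.comp (ev f x) = ev (g.comp f) (Units.map g.toMonoidHom x) := by
  refine lhom_ext (fun r => by simp) ?_
  simp

theorem map_ev {U : Type w} [CommRing U] (g : S →+* U) (p : R[T;T⁻¹]) :
    g (ev f x p) = ev (g.comp f) (Units.map g.toMonoidHom x) p :=
  RingHom.congr_fun (comp_ev f x g) p

theorem ev_eq_sum (p : R[T;T⁻¹]) : ev f x p = p.coeff.sum fun n r => f r * ((x ^ n : Sˣ) : S) := by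
  induction p using LaurentPolynomial.induction_on' with
  | add p q hp hq =>
    rw [map_add, hp, hq, AddMonoidAlgebra.coeff_add, Finsupp.sum_add_index' (by simp) (by simp [add_mul])]
  | C_mul_T n a =>
    rw [← single_eq_C_mul_T, AddMonoidAlgebra.coeff_single, Finsupp.sum_single_index (by simp),
      single_eq_C_mul_T, map_mul, ev_C, ev_T]

/-- Evaluation does not change when the unit changes by something annihilated by the coefficients. -/
theorem ev_congr (y : Sˣ) (p : R[T;T⁻¹]) (h : ∀ n, f (p.coeff n) * (x : S) = f (p.coeff n) * y) :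
    ev f x p = ev f y p := by
  rw [ev_eq_sum, ev_eq_sum]
  refine Finset.sum_congr rfl fun k _ => ?_
  show f (p.coeff k) * _ = f (p.coeff k) * _
  have hm : ∀ m : ℕ, f (p.coeff k) * (x : S) ^ m = f (p.coeff k) * (y : S) ^ m := by
    intro m
    induction m with
    | zero => simp
    | succ m ih => rw [pow_succ, pow_succ]; linear_combination (x : S) * ih + (y : S) ^ m * h k
  obtain ⟨m, hk | hk⟩ := Int.eq_nat_or_neg k
  · rw [hk, zpow_natCast, zpow_natCast, Units.val_pow_eq_pow_val, Units.val_pow_eq_pow_val]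
    rw [hk] at hm
    exact hm m
  · rw [hk, zpow_neg, zpow_neg, zpow_natCast, zpow_natCast]
    rw [hk] at hm
    have e1 : ((x ^ m)⁻¹ : Sˣ) * (x : S) ^ m = (1 : S) := by rw [← Units.val_pow_eq_pow_val, Units.inv_mul]
    have e2 : ((y ^ m)⁻¹ : Sˣ) * (y : S) ^ m = (1 : S) := by rw [← Units.val_pow_eq_pow_val, Units.inv_mul]
    linear_combination (-((x ^ m)⁻¹ : Sˣ) * ((y ^ m)⁻¹ : Sˣ) : S) * hm m +
      f (p.coeff (-(m : ℤ))) * (((y ^ m)⁻¹ : Sˣ) : S) * e1 - f (p.coeff (-(m : ℤ))) * (((x ^ m)⁻¹ : Sˣ) : S) * e2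

end Ev

section FunEq

variable {A : Type u} [CommRing A]

/-- Laurent polynomials in two variables `z`, `q`. -/
abbrev L2 (A : Type u) [CommRing A] : Type u := (A[T;T⁻¹])[T;T⁻¹]

/-- The first variable. -/
def zv : (L2 A)ˣ := (IsUnit.map (C : A[T;T⁻¹] →+* L2 A) (isUnit_T 1)).unit

/-- The second variable. -/
def qv : (L2 A)ˣ := (isUnit_T (R := A[T;T⁻¹]) 1).unit

theorem val_zv : ((zv : (L2 A)ˣ) : L2 A) = C (T 1) := rfl

theorem val_qv : ((qv : (L2 A)ˣ) : L2 A) = T 1 := rfl

/-- The scalars. -/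
def scal : A →+* L2 A := (C : A[T;T⁻¹] →+* L2 A).comp C

theorem val_zv_zpow (n : ℤ) : ((zv ^ n : (L2 A)ˣ) : L2 A) = C (T n) := by
  have h := (ev_T scal (zv : (L2 A)ˣ) n).symm
  refine h.trans ?_
  have e : ev scal (zv : (L2 A)ˣ) = C := lhom_ext (fun r => by simp [scal]) (by simp [val_zv])
  rw [e]

theorem val_qv_zpow (n : ℤ) : ((qv ^ n : (L2 A)ˣ) : L2 A) = T n := by
  have h := (ev_T (C : A[T;T⁻¹] →+* L2 A) (qv : (L2 A)ˣ) n).symm
  refine h.trans ?_
  have e : ev (C : A[T;T⁻¹] →+* L2 A) qv = RingHom.id _ := lhom_ext (fun r => by simp) (by simp [val_qv])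
  rw [e]
  rfl

theorem ev_zv (h : A[T;T⁻¹]) : ev scal zv h = C h := by
  have e : ev scal (zv : (L2 A)ˣ) = C := lhom_ext (fun r => by simp [scal]) (by simp [val_zv])
  rw [e]

theorem coeff_ev_qv (h : A[T;T⁻¹]) (k : ℤ) : (ev scal qv h : L2 A).coeff k = C (h.coeff k) := by
  induction h using LaurentPolynomial.induction_on' with
  | add p q hp hq => simp [hp, hq, map_add]
  | C_mul_T n a =>
    rw [map_mul, ev_C, ev_T, val_qv_zpow, scal, RingHom.comp_apply, ← single_eq_C_mul_T, AddMonoidAlgebra.coeff_single,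
      ← single_eq_C_mul_T, AddMonoidAlgebra.coeff_single, Finsupp.single_apply, Finsupp.single_apply]
    split_ifs <;> simp

theorem coeff_ev_zq (h : A[T;T⁻¹]) (k : ℤ) : (ev scal (zv * qv) h : L2 A).coeff k = C (h.coeff k) * T k := by
  induction h using LaurentPolynomial.induction_on' with
  | add p q hp hq => simp [hp, hq, map_add, add_mul]
  | C_mul_T n a =>
    have e : (((zv * qv) ^ n : (L2 A)ˣ) : L2 A) = C (T n) * T n := by
      rw [← val_zv_zpow, ← val_qv_zpow, ← Units.val_mul]
      exact congrArg Units.val (mul_zpow (zv : (L2 A)ˣ) qv n)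
    rw [map_mul, ev_C, ev_T, e, ← mul_assoc, scal,
      RingHom.comp_apply, ← map_mul, ← single_eq_C_mul_T, AddMonoidAlgebra.coeff_single,
      ← single_eq_C_mul_T, AddMonoidAlgebra.coeff_single, Finsupp.single_apply, Finsupp.single_apply]
    split_ifs with h
    · subst h
      exact single_eq_C_mul_T a n
    · simp

theorem coeff_C_mul (r : A) (f : A[T;T⁻¹]) (k : ℤ) : (C r * f).coeff k = r * f.coeff k := by
  rw [← single_eq_C, AddMonoidAlgebra.coeff_single_zero_mul]

/-- A linear solution. -/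
def lin (c : A) : A[T;T⁻¹] := C (1 - c) + C c * T 1

theorem coeff_lin (c : A) (k : ℤ) : (lin c).coeff k = (if k = 0 then 1 - c else 0) + (if k = 1 then c else 0) := by
  simp only [lin, AddMonoidAlgebra.coeff_add, Finsupp.add_apply, coeff_C_mul, C_apply, T_apply, mul_ite, mul_one,
    mul_zero]
  congr 1
  simp [eq_comm]

theorem ev_lin {S : Type v} [CommRing S] (f : A →+* S) (x : Sˣ) (c : A) :
    ev f x (lin c) = 1 + f c * ((x : S) - 1) := by
  simp [lin]
  ring

/-- The functional equation. -/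
def FunEq (h : A[T;T⁻¹]) : Prop :=
  ∃ w : (L2 A)ˣ, (w : L2 A) = (zv : (L2 A)ˣ).val + ((qv : (L2 A)ˣ).val - 1) * ev scal zv h ∧
    ev scal w h = ev scal zv h * ev scal qv h

/-- First-order rigidity. -/
theorem eq_zero_of_funEq (n : A[T;T⁻¹]) (c : A) (h1 : n.coeff 1 = 0)
    (hc : ∀ k, (c - 1) * n.coeff k = 0) (hn : ∀ k l, n.coeff k * n.coeff l = 0)
    (hE : FunEq (lin c + n)) : n = 0 := by
  obtain ⟨w, hw, hE⟩ := hE
  set N : L2 A := C n with hN
  have hz : ev scal zv n = N := ev_zv n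
  have hs : ∀ k, scal (n.coeff k) * (scal c : L2 A) = scal (n.coeff k) := fun k => by
    rw [← map_mul]
    congr 1
    linear_combination hc k
  have hsN : ∀ k, scal (n.coeff k) * N = 0 := fun k => by
    rw [hN, scal, RingHom.comp_apply, ← map_mul]
    convert map_zero (C : A[T;T⁻¹] →+* L2 A)
    ext l
    rw [coeff_C_mul, hn]
    simp
  have hcN : scal c * N = N := by
    rw [hN, scal, RingHom.comp_apply, ← map_mul]
    congr 1
    ext l
    rw [coeff_C_mul]
    linear_combination hc l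
  have hNq : N * ev scal qv n = 0 := by
    rw [ev_eq_sum, Finsupp.mul_sum]
    refine Finset.sum_eq_zero fun k _ => ?_
    linear_combination ((qv ^ k : (L2 A)ˣ) : L2 A) * hsN k
  have hwn : ev scal w n = ev scal (zv * qv) n := ev_congr _ _ _ _ fun k => by
    rw [hw, map_add, ev_lin, hz, Units.val_mul]
    linear_combination ((qv : (L2 A)ˣ).val - 1) * ((zv : (L2 A)ˣ).val - 1) * hs k + ((qv : (L2 A)ˣ).val - 1) * hsN k
  have hq : ev scal qv (lin c) * N = (qv : (L2 A)ˣ).val * N := by
    rw [ev_lin]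
    linear_combination ((qv : (L2 A)ˣ).val - 1) * hcN
  have hzq : ev scal zv (lin c) * ev scal qv n = (zv : (L2 A)ˣ).val * ev scal qv n := by
    have e : scal c * ev scal qv n = ev scal qv n := by
      rw [ev_eq_sum, Finsupp.mul_sum]
      refine Finset.sum_congr rfl fun k _ => ?_
      show scal c * (scal (n.coeff k) * _) = scal (n.coeff k) * _
      linear_combination ((qv ^ k : (L2 A)ˣ) : L2 A) * hs k
    rw [ev_lin]
    linear_combination ((zv : (L2 A)ˣ).val - 1) * e
  rw [map_add, map_add, hwn, hz] at hE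
  have hwl : ev scal w (lin c) = ev scal zv (lin c) * ev scal qv (lin c) + scal c * ((qv : (L2 A)ˣ).val - 1) * N := by
    rw [ev_lin, ev_lin, ev_lin, hw, map_add, ev_lin, hz]
    ring
  rw [hwl] at hE
  have key : ev scal (zv * qv) n = (zv : (L2 A)ˣ).val * ev scal qv n + N := by
    rw [map_add] at hE
    linear_combination hE - ((qv : (L2 A)ˣ).val - 1) * hcN + hzq + hq + hNq
  have h0 := congrArg (fun p : L2 A => p.coeff 0) key
  simp only [AddMonoidAlgebra.coeff_add, Finsupp.add_apply, val_zv, coeff_C_mul, coeff_ev_zq, coeff_ev_qv,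
    T_zero, mul_one, hN, C_apply, if_pos] at h0
  have hlin : n = (1 - T 1) * C (n.coeff 0) := by linear_combination -h0
  have h10 : n.coeff 0 = 0 := by
    have := congrArg (fun p : A[T;T⁻¹] => p.coeff 1) hlin
    simpa [sub_mul, mul_comm (T 1 : A[T;T⁻¹]) (C _), coeff_C_mul, h1] using this
  rw [hlin, h10, map_zero, mul_zero]

theorem FunEq.map {B : Type v} [CommRing B] (φ : A →+* B) {h : A[T;T⁻¹]} (hE : FunEq h) :
    FunEq (ev ((C : B →+* B[T;T⁻¹]).comp φ) (isUnit_T 1).unit h) := by
  obtain ⟨w, hw, hE⟩ := hE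
  set ι₀ := ev ((C : B →+* B[T;T⁻¹]).comp φ) (isUnit_T 1).unit with hι
  set G : L2 A →+* L2 B := ev ((C : B[T;T⁻¹] →+* L2 B).comp ι₀) qv with hG
  have hGs : G.comp scal = (scal : B →+* L2 B).comp φ := RingHom.ext fun r => by simp [G, ι₀, scal]
  have hGz : Units.map G.toMonoidHom zv = (zv : (L2 B)ˣ) := Units.ext (by simp [G, ι₀, val_zv])
  have hGq : Units.map G.toMonoidHom qv = (qv : (L2 B)ˣ) := Units.ext (by simp [G, val_qv])
  have key : ∀ (x : (L2 B)ˣ) (p : A[T;T⁻¹]), ev (scal : B →+* L2 B) x (ι₀ p) = ev ((scal : B →+* L2 B).comp φ) x p := by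
    intro x p
    have e1 : (ev (scal : B →+* L2 B) x).comp ((C : B →+* B[T;T⁻¹]).comp φ) = (scal : B →+* L2 B).comp φ :=
      RingHom.ext fun r => by simp
    have e2 : Units.map (ev (scal : B →+* L2 B) x).toMonoidHom (isUnit_T 1).unit = x := Units.ext (by simp)
    rw [hι, map_ev, e1, e2]
  refine ⟨Units.map G.toMonoidHom w, ?_, ?_⟩
  · show G w = _
    rw [hw, key, map_add, map_mul, map_sub, map_one, map_ev, hGs, hGz]
    congr 2 <;> simp [← hGz, ← hGq]
  · have := congrArg G hE
    rw [map_mul, map_ev, map_ev, map_ev, hGs, hGz, hGq] at this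
    rw [key, key, key]
    exact this

theorem coeff_map {B : Type v} [CommRing B] (φ : A →+* B) (p : A[T;T⁻¹]) (k : ℤ) :
    (ev ((C : B →+* B[T;T⁻¹]).comp φ) (isUnit_T 1).unit p).coeff k = φ (p.coeff k) := by
  induction p using LaurentPolynomial.induction_on' with
  | add p q hp hq => simp [hp, hq]
  | C_mul_T n a =>
    have e : (((isUnit_T (R := B) 1).unit ^ n : (B[T;T⁻¹])ˣ) : B[T;T⁻¹]) = T n := by
      have := ev_T (C : B →+* B[T;T⁻¹]) (isUnit_T (R := B) 1).unit n
      rw [← this, show ev (C : B →+* B[T;T⁻¹]) (isUnit_T (R := B) 1).unit = RingHom.id _ from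
        lhom_ext (fun r => by simp) (by simp)]
      rfl
    rw [map_mul, ev_C, ev_T, e, RingHom.comp_apply, ← single_eq_C_mul_T, AddMonoidAlgebra.coeff_single,
      ← single_eq_C_mul_T, AddMonoidAlgebra.coeff_single, Finsupp.single_apply, Finsupp.single_apply]
    split_ifs <;> simp

/-- A solution congruent to `T` modulo nilpotents is linear. -/
theorem eq_lin_of_funEq (h : A[T;T⁻¹]) (hn : ∀ k, IsNilpotent ((h - T 1).coeff k)) (hE : FunEq h) :
    h = lin (h.coeff 1) := by
  classical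
  set c := h.coeff 1 with hc
  set n := h - lin c with hn'
  let Nf : Finset A := ((h - T 1).coeff.support.image fun k => (h - T 1).coeff k)
  let N : Ideal A := Ideal.span (Nf : Set A)
  have hNnil : IsNilpotent N := (Ideal.FG.isNilpotent_iff_le_nilradical ⟨Nf, rfl⟩).2 (Ideal.span_le.2 fun a ha => by
    obtain ⟨k, -, rfl⟩ := Finset.mem_image.1 ha
    exact hn k)
  have hmem : ∀ k, (h - T 1).coeff k ∈ N := fun k => by
    by_cases hk : (h - T 1).coeff k = 0
    · rw [hk]; exact zero_mem _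
    · exact Ideal.subset_span (Finset.mem_image.2 ⟨k, Finsupp.mem_support_iff.2 hk, rfl⟩)
  have hc1 : c - 1 ∈ N := by simpa [hc] using hmem 1
  have hJN : ∀ k, n.coeff k ∈ N := fun k => by
    have : n.coeff k = (h - T 1).coeff k +
        ((if k = 0 then c - 1 else 0) + (if k = 1 then -(c - 1) else 0)) := by
      simp only [hn', AddMonoidAlgebra.coeff_sub, Finsupp.sub_apply, coeff_lin, T_apply, eq_comm (a := (1 : ℤ))]
      split_ifs <;> ring
    rw [this]
    refine add_mem (hmem k) (add_mem ?_ ?_) <;> split_ifs <;>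
      first | exact zero_mem _ | exact hc1 | exact neg_mem hc1
  let J : Ideal A := Ideal.span (Set.range fun k => n.coeff k)
  have hJle : J ≤ N * J := by
    let π := Ideal.Quotient.mk (N * J)
    let ι₀ := ev ((C : (A ⧸ N * J) →+* (A ⧸ N * J)[T;T⁻¹]).comp π) (isUnit_T 1).unit
    have hh : ι₀ h = lin (π c) + ι₀ n := by
      rw [hn', map_sub, show ι₀ (lin c) = lin (π c) by simp [ι₀, lin]]
      ring
    have h0 := eq_zero_of_funEq (ι₀ n) (π c) (by
      rw [coeff_map, show n.coeff 1 = 0 by simp [hn', coeff_lin, hc], map_zero]) (fun k => by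
      rw [coeff_map, ← map_one π, ← map_sub, ← map_mul, Ideal.Quotient.eq_zero_iff_mem]
      exact Ideal.mul_mem_mul hc1 (Ideal.subset_span ⟨k, rfl⟩)) (fun k l => by
      rw [coeff_map, coeff_map, ← map_mul, Ideal.Quotient.eq_zero_iff_mem]
      exact Ideal.mul_mem_mul (hJN k) (Ideal.subset_span ⟨l, rfl⟩)) (hh ▸ hE.map π)
    refine Ideal.span_le.2 ?_
    rintro _ ⟨k, rfl⟩
    have := coeff_map π n k
    rw [h0] at this
    exact Ideal.Quotient.eq_zero_iff_mem.1 (by simpa using this.symm)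
  have hpow : ∀ m : ℕ, J ≤ N ^ m * J := fun m => by
    induction m with
    | zero => simp
    | succ m ih =>
      calc J ≤ N ^ m * J := ih
        _ ≤ N ^ m * (N * J) := Ideal.mul_mono_right hJle
        _ = N ^ (m + 1) * J := by rw [pow_succ, mul_assoc]
  obtain ⟨m, hm⟩ := hNnil
  have : n = 0 := by
    ext k
    have := hpow m (Ideal.subset_span (Set.mem_range_self k) : n.coeff k ∈ J)
    rw [hm, Submodule.zero_eq_bot, Ideal.bot_mul] at this
    exact Ideal.mem_bot.1 this
  exact sub_eq_zero.1 this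

end FunEq

end Groth.Agent.Red23Lib.Rule
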