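import Groth.Agent.Red23Lib.Rule.FieldCases
import Groth.Agent.Red23Lib.Rule.Laurent

/-!
# Normalised coordinates and their homogeneity
-/

set_option autoImplicit false
set_option linter.style.haveILetI false

universe u

open CategoryTheory CategoryTheory.Limits AlgebraicGeometry MonoidalCategory CartesianMonoidalCategory
open Groth.Agent.GrpSchLib Groth.Agent.GrpSchLib.RankOne
open scoped MonObj Polynomial
open LaurentPolynomial (T C)

noncomputable section

namespace Groth.Agent.Red23Lib.Rule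

theorem isUnit_of_fields {A : Type u} [CommRing A] (r : A)
    (h : ∀ (K : Type u) [Field K] (φ : A →+* K), φ r ≠ 0) : IsUnit r := by
  by_contra hr
  obtain ⟨m, hm, hle⟩ := Ideal.exists_le_maximal (Ideal.span {r}) (by rwa [Ne, Ideal.span_singleton_eq_top])
  letI := Ideal.Quotient.field m
  exact h (A ⧸ m) (Ideal.Quotient.mk m) (Ideal.Quotient.eq_zero_iff_mem.2 (hle (Ideal.mem_span_singleton_self r)))

theorem isNilpotent_of_fields {A : Type u} [CommRing A] (r : A)
    (h : ∀ (K : Type u) [Field K] (φ : A →+* K), φ r = 0) : IsNilpotent r := by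
  rw [nilpotent_iff_mem_prime]
  intro p hp
  have h1 := h (FractionRing (A ⧸ p)) ((algebraMap (A ⧸ p) _).comp (Ideal.Quotient.mk p))
  exact Ideal.Quotient.eq_zero_iff_mem.1 (IsFractionRing.injective (A ⧸ p) (FractionRing (A ⧸ p))
    (h1.trans (map_zero _).symm))

/-- Scaling of the infinitesimal. -/
def dscale {A : Type u} [CommRing A] (c : A) : DualNumber A →+* DualNumber A where
  toFun x := TrivSqZeroExt.inl x.fst + TrivSqZeroExt.inr (c * x.snd)
  map_one' := by ext <;> simp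
  map_zero' := by ext <;> simp
  map_mul' x y := by ext <;> simp <;> ring
  map_add' x y := by ext <;> simp <;> ring

variable {S : Scheme.{u}} {G T' : Over S} [GrpObj G] [GrpObj T'] (D : RSys G T') (hnc : D.NonComm)

namespace RSys

variable {A B : Type u} [CommRing A] [CommRing B]

include hnc in
theorem isUnit_der (b : Spec (CommRingCat.of A) ⟶ S) : IsUnit (D.der b) :=
  isUnit_of_fields _ fun K _ φ => by rw [D.der_map φ rfl]; exact D.der_ne_zero hnc _

/-- The constant as a unit. -/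
def aU (b : Spec (CommRingCat.of A) ⟶ S) : Aˣ := (D.isUnit_der hnc b).unit

theorem val_aU (b : Spec (CommRingCat.of A) ⟶ S) : (D.aU hnc b : A) = D.der b := rfl

theorem aU_map {b : Spec (CommRingCat.of A) ⟶ S} {b' : Spec (CommRingCat.of B) ⟶ S} (φ : A →+* B)
    (h : Spec.map (CommRingCat.ofHom φ) ≫ b = b') : Units.map φ.toMonoidHom (D.aU hnc b) = D.aU hnc b' :=
  Units.ext (D.der_map φ h)

theorem aU_inv_map {b : Spec (CommRingCat.of A) ⟶ S} {b' : Spec (CommRingCat.of B) ⟶ S} (φ : A →+* B)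
    (h : Spec.map (CommRingCat.ofHom φ) ≫ b = b') :
    φ (((D.aU hnc b)⁻¹ : Aˣ) : A) = (((D.aU hnc b')⁻¹ : Bˣ) : B) := by
  rw [← D.aU_map hnc φ h, ← map_inv]
  rfl

/-- The normalised coordinates. -/
def NCrd (b : Spec (CommRingCat.of A) ⟶ S) (x y a : A) (t : tst b ⟶ T') (d : A) : Prop :=
  D.Crd b x (((D.aU hnc b)⁻¹ : Aˣ) * y) (((D.aU hnc b)⁻¹ : Aˣ) * a) t d

variable {D hnc} {b : Spec (CommRingCat.of A) ⟶ S}

theorem NCrd.unique {x y a a' d d' : A} {t t' : tst b ⟶ T'} (h : D.NCrd hnc b x y a t d)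
    (h' : D.NCrd hnc b x y a' t' d') : a = a' ∧ t = t' ∧ d = d' := by
  obtain ⟨e1, e2, e3⟩ := Crd.unique h h'
  exact ⟨((D.aU hnc b)⁻¹).isUnit.mul_left_cancel e1, e2, e3⟩

theorem NCrd.map {b' : Spec (CommRingCat.of B) ⟶ S} (φ : A →+* B)
    (h : Spec.map (CommRingCat.ofHom φ) ≫ b = b') {x y a d : A} {t : tst b ⟶ T'} (hc : D.NCrd hnc b x y a t d) :
    D.NCrd hnc b' (φ x) (φ y) (φ a) (sh φ h ≫ t) (φ d) := by
  have := Crd.map φ h hc
  rw [map_mul, map_mul, D.aU_inv_map hnc φ h] at this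
  exact this

theorem exists_ncrd_iff_crd {x y : A} :
    (∃ a t d, D.NCrd hnc b x y a t d) ↔ D.Mem b x (((D.aU hnc b)⁻¹ : Aˣ) * y) := by
  constructor
  · rintro ⟨a, t, d, h⟩
    exact ⟨_, t, d, h⟩
  · rintro ⟨a, t, d, h⟩
    exact ⟨(D.aU hnc b : A) * a, t, d, by rwa [NCrd, Units.inv_mul_cancel_left]⟩

/-- The rule on fields, normalised. -/
theorem field_nrule {K : Type u} [Field K] {b : Spec (CommRingCat.of K) ⟶ S} (x y : K) :
    ((∃ a t d, D.NCrd hnc b x y a t d) ↔ 1 + x * y ≠ 0) ∧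
      ∀ a t d, D.NCrd hnc b x y a t d → d * (1 + x * y) = x ∧ a * (1 + x * y) = y := by
  obtain ⟨h1, h2⟩ := D.field_rule hnc b x (((D.aU hnc b)⁻¹ : Kˣ) * y)
  have e : 1 + D.der b * x * ((((D.aU hnc b)⁻¹ : Kˣ) : K) * y) = 1 + x * y := by
    rw [← D.val_aU hnc b]
    linear_combination x * y * (D.aU hnc b).mul_inv
  rw [e] at h1 h2
  refine ⟨exists_ncrd_iff_crd.trans h1, fun a t d h => ⟨(h2 _ _ _ h).1, ?_⟩⟩
  have := (h2 _ _ _ h).2
  rw [mul_assoc] at this
  exact ((D.aU hnc b)⁻¹).isUnit.mul_left_cancel this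

theorem exists_ncrd {x y : A} (hz : IsUnit (1 + x * y)) : ∃ a t d, D.NCrd hnc b x y a t d := by
  rw [exists_ncrd_iff_crd]
  refine D.mem_of_fields _ _ _ fun K _ φ => ?_
  rw [map_mul, D.aU_inv_map hnc φ rfl]
  refine exists_ncrd_iff_crd.1 ((field_nrule (φ x) (φ y)).1.2 ?_)
  rw [← map_mul, ← map_one φ, ← map_add]
  exact (hz.map φ).ne_zero

theorem NCrd.isUnit {x y a d : A} {t : tst b ⟶ T'} (h : D.NCrd hnc b x y a t d) : IsUnit (1 + x * y) :=
  isUnit_of_fields _ fun K _ φ => by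
    rw [map_add, map_one, map_mul]
    exact (field_nrule (φ x) (φ y)).1.1 ⟨_, _, _, h.map φ rfl⟩

theorem ncrd_zero_right (x : A) : D.NCrd hnc b x 0 0 1 x := by
  rw [NCrd, mul_zero]
  exact D.crd_zero_right b x

theorem NCrd.scale {x y a d : A} {t : tst b ⟶ T'} (h : D.NCrd hnc b x y a t d) (s : tst b ⟶ T') :
    D.NCrd hnc b (D.cv b s * x) (((D.cv b s)⁻¹ : Aˣ) * y) (((D.cv b s)⁻¹ : Aˣ) * a) t (D.cv b s * d) := by
  unfold NCrd Crd at *
  rw [mul_left_comm _ (((D.cv b s)⁻¹ : Aˣ) : A) y, mul_left_comm _ (((D.cv b s)⁻¹ : Aˣ) : A) a, ← D.conj_P,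
    ← D.conj_M, ← D.conj_M, ← D.conj_P]
  have ht : (s ≫ D.i) * (t ≫ D.i) = (t ≫ D.i) * (s ≫ D.i) := by
    rw [← MonObj.mul_comp, ← MonObj.mul_comp, torus_mul_comm D.hT]
  calc _ = (s ≫ D.i) * (D.P b x * D.M b (((D.aU hnc b)⁻¹ : Aˣ) * y)) * (s ≫ D.i)⁻¹ := by group
    _ = (s ≫ D.i) * D.M b (((D.aU hnc b)⁻¹ : Aˣ) * a) * (s ≫ D.i)⁻¹ * ((s ≫ D.i) * (t ≫ D.i) * (s ≫ D.i)⁻¹) *
          ((s ≫ D.i) * D.P b d * (s ≫ D.i)⁻¹) := by rw [h]; group
    _ = _ := by rw [ht]; group

theorem NCrd.add_right {x y a d v a' d' : A} {t t' : tst b ⟶ T'} (h : D.NCrd hnc b x y a t d)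
    (h' : D.NCrd hnc b d v a' t' d') :
    D.NCrd hnc b x (y + v) (a + ((D.cv b t)⁻¹ : Aˣ) * a') (t * t') d' := by
  unfold NCrd Crd at *
  rw [mul_add, D.M_add, ← mul_assoc, h, mul_add, D.M_add, MonObj.mul_comp,
    mul_left_comm _ (((D.cv b t)⁻¹ : Aˣ) : A) a', ← D.conj_M]
  calc _ = D.M b (((D.aU hnc b)⁻¹ : Aˣ) * a) * (t ≫ D.i) * (D.P b d * D.M b (((D.aU hnc b)⁻¹ : Aˣ) * v)) := by group
    _ = _ := by rw [h']; group

theorem NCrd.add_left {x y a d r a' d' : A} {t t' : tst b ⟶ T'} (h : D.NCrd hnc b x y a t d)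
    (h' : D.NCrd hnc b r a a' t' d') :
    D.NCrd hnc b (r + x) y a' (t' * t) (((D.cv b t)⁻¹ : Aˣ) * d' + d) := by
  unfold NCrd Crd at *
  rw [D.P_add, mul_assoc, h, D.P_add, MonObj.mul_comp]
  have hconj : (t ≫ D.i) * D.P b (((D.cv b t)⁻¹ : Aˣ) * d') * (t ≫ D.i)⁻¹ = D.P b d' := by
    rw [D.conj_P, Units.mul_inv_cancel_left]
  calc _ = (D.P b r * D.M b (((D.aU hnc b)⁻¹ : Aˣ) * a)) * (t ≫ D.i) * D.P b d := by group
    _ = _ := by rw [h', ← hconj]; group

/-- The coordinate at the infinitesimal point. -/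
theorem exists_ncrd_eps : ∃ a t, D.NCrd hnc (dBase b) 1 DualNumber.eps a t (1 - DualNumber.eps) := by
  obtain ⟨a, t, hc⟩ := D.crd_eps b
  let c : A := (((D.aU hnc b)⁻¹ : Aˣ) : A)
  have hb : Spec.map (CommRingCat.ofHom (dscale c)) ≫ dBase b = dBase b := by
    rw [dBase, ← Category.assoc, ← Spec.map_comp, ← CommRingCat.ofHom_comp,
      show (dscale c).comp (dinl A) = dinl A from RingHom.ext fun r => by ext <;> simp [dscale, dinl]]
  have h1 := hc.map (dscale c) hb
  have e1 : dscale c DualNumber.eps = (((D.aU hnc (dBase b))⁻¹ : (DualNumber A)ˣ) : DualNumber A) * DualNumber.eps := by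
    rw [← D.aU_inv_map hnc (dinl A) (b' := dBase b) rfl]
    ext <;> simp [dscale, dinl, c]
  have e2 : dscale c (1 - TrivSqZeroExt.inr (D.der b)) = 1 - DualNumber.eps := by
    ext
    · simp [dscale]
    · simp [dscale, c, ← D.val_aU hnc b]
  rw [map_one, e1, e2] at h1
  refine ⟨(D.aU hnc (dBase b) : DualNumber A) * dscale c a, sh (dscale c) hb ≫ t, ?_⟩
  rw [NCrd, Units.inv_mul_cancel_left]
  exact h1

/-- Substitution in the Laurent variable. -/
def sub (φ : A →+* B) (u : Bˣ) : LaurentPolynomial A →+* LaurentPolynomial B :=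
  ev ((C : B →+* LaurentPolynomial B).comp φ)
    (Units.map (C : B →+* LaurentPolynomial B).toMonoidHom u * (LaurentPolynomial.isUnit_T 1).unit)

theorem val_T_zpow (k : ℤ) :
    (((LaurentPolynomial.isUnit_T (R := B) 1).unit ^ k : (LaurentPolynomial B)ˣ) : LaurentPolynomial B) = T k := by
  have h := ev_T (C : B →+* LaurentPolynomial B) (LaurentPolynomial.isUnit_T (R := B) 1).unit k
  rw [← h, show ev (C : B →+* LaurentPolynomial B) (LaurentPolynomial.isUnit_T (R := B) 1).unit = RingHom.id _ from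
    lhom_ext (fun r => by simp) (by simp)]
  rfl

theorem coeff_sub (φ : A →+* B) (u : Bˣ) (p : LaurentPolynomial A) (k : ℤ) :
    (sub φ u p).coeff k = φ (p.coeff k) * ((u ^ k : Bˣ) : B) := by
  induction p using LaurentPolynomial.induction_on' with
  | add p q hp hq => simp [hp, hq, add_mul]
  | C_mul_T n a =>
    have e : (((Units.map (C : B →+* LaurentPolynomial B).toMonoidHom u * (LaurentPolynomial.isUnit_T 1).unit) ^ n :
        (LaurentPolynomial B)ˣ) : LaurentPolynomial B) = C ((u ^ n : Bˣ) : B) * T n := by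
      rw [mul_zpow, Units.val_mul, val_T_zpow, ← map_zpow]
      rfl
    rw [sub, map_mul, ev_C, ev_T, e, ← mul_assoc, RingHom.comp_apply, ← map_mul,
      ← LaurentPolynomial.single_eq_C_mul_T, AddMonoidAlgebra.coeff_single,
      ← LaurentPolynomial.single_eq_C_mul_T, AddMonoidAlgebra.coeff_single, Finsupp.single_apply, Finsupp.single_apply]
    split_ifs with h
    · subst h; rfl
    · simp

theorem fval_sh' {C' : Type u} [CommRing C'] {b' : Spec (CommRingCat.of B) ⟶ S} (φ : A →+* B)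
    (h : Spec.map (CommRingCat.ofHom φ) ≫ b = b') {b'' : Spec (CommRingCat.of C') ⟶ S}
    (ψ : B →+* C') (h' : Spec.map (CommRingCat.ofHom ψ) ≫ b' = b'') (χ : A →+* C') (hχ : ψ.comp φ = χ)
    (h'' : Spec.map (CommRingCat.ofHom χ) ≫ b = b'') {Y : Over S} (q : tst b' ⟶ Y)
    (f : Γ(pullback Y.hom b, ⊤)) : fval χ h'' (sh ψ h' ≫ q) f = ψ (fval φ h q f) := by
  subst hχ
  exact fval_sh φ h ψ h' h'' q f

set_option maxHeartbeats 1000000 in
/-- Homogeneity. -/
theorem NCrd.homog {xa ya a d : A} {t : tst b ⟶ T'} (h : D.NCrd hnc b xa ya a t d) (l : Aˣ) :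
    D.NCrd hnc b ((l : A) * xa) ((l⁻¹ : Aˣ) * ya) ((l⁻¹ : Aˣ) * a) t ((l : A) * d) := by
  let L := LaurentPolynomial A
  let bL : Spec (CommRingCat.of L) ⟶ S := Spec.map (CommRingCat.ofHom (C : A →+* L)) ≫ b
  let X : Lˣ := (LaurentPolynomial.isUnit_T (R := A) 1).unit
  have hXi : ((X⁻¹ : Lˣ) : L) = T (-1) := by rw [← zpow_neg_one, val_T_zpow]
  obtain ⟨P, q, Q, hP⟩ : ∃ P q Q, D.NCrd hnc bL ((X : L) * C xa) ((X⁻¹ : Lˣ) * C ya) P q Q := exists_ncrd (by
    have e : 1 + (X : L) * C xa * (((X⁻¹ : Lˣ) : L) * C ya) = C (1 + xa * ya) := by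
      rw [map_add, map_one, map_mul]
      linear_combination C xa * C ya * X.mul_inv
    rw [e]
    exact h.isUnit.map _)
  -- evaluation at a unit
  have hev : ∀ (u : Aˣ) (hb : Spec.map (CommRingCat.ofHom (ev (RingHom.id A) u)) ≫ bL = b),
      D.NCrd hnc b ((u : A) * xa) ((u⁻¹ : Aˣ) * ya) (ev (RingHom.id A) u P) (sh _ hb ≫ q) (ev (RingHom.id A) u Q) := by
    intro u hb
    have h1 := hP.map _ hb
    rw [map_mul, map_mul, ev_C, ev_C, hXi, ev_T, RingHom.id_apply, RingHom.id_apply, zpow_neg_one,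
      show (X : L) = T 1 from rfl, ev_T, zpow_one] at h1
    exact h1
  have hbev : ∀ u : Aˣ, Spec.map (CommRingCat.ofHom (ev (RingHom.id A) u)) ≫ bL = b := fun u => by
    rw [← Category.assoc, ← Spec.map_comp, ← CommRingCat.ofHom_comp,
      show (ev (RingHom.id A) u).comp C = RingHom.id A from RingHom.ext fun r => by simp]
    simp
  -- the action of the torus
  have hact : ∀ (B : CommRingCat.{u}) (φ : A →+* B) (b' : Spec B ⟶ S) (hb : Spec.map (CommRingCat.ofHom φ) ≫ b = b')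
      (s : Over.mk b' ⟶ T'),
      ∀ (h1 : Spec.map (CommRingCat.ofHom (sub φ (D.cv (A := B) b' s))) ≫ bL =
          Spec.map (CommRingCat.ofHom (C : B →+* LaurentPolynomial B)) ≫ b')
        (h0 : Spec.map (CommRingCat.ofHom (sub φ (1 : (B : Type u)ˣ))) ≫ bL =
          Spec.map (CommRingCat.ofHom (C : B →+* LaurentPolynomial B)) ≫ b'),
      sub φ (D.cv (A := B) b' s) P = C (((D.cv (A := B) b' s)⁻¹ : (B : Type u)ˣ) : B) * sub φ 1 P ∧
        sh _ h1 ≫ q = sh _ h0 ≫ q ∧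
        sub φ (D.cv (A := B) b' s) Q = C ((D.cv (A := B) b' s : (B : Type u)ˣ) : B) * sub φ 1 Q := by
    intro B φ b' hb s h1 h0
    set u := D.cv (A := B) b' s with hu
    let bB : Spec (CommRingCat.of (LaurentPolynomial B)) ⟶ S :=
      Spec.map (CommRingCat.ofHom (C : B →+* LaurentPolynomial B)) ≫ b'
    let sB : tst bB ⟶ T' := sh (A := B) (C : B →+* LaurentPolynomial B) (b' := bB) rfl ≫ s
    have hcv : D.cv bB sB = Units.map (C : B →+* LaurentPolynomial B).toMonoidHom u :=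
      Units.ext (D.cv_sh (A := B) (C : B →+* LaurentPolynomial B) (b' := bB) rfl s)
    have e1 := hP.map (sub φ u) h1
    have e0 := (hP.map (sub φ (1 : (B : Type u)ˣ)) h0).scale sB
    have ex : sub φ u ((X : L) * C xa) = (D.cv bB sB : LaurentPolynomial B) * sub φ 1 ((X : L) * C xa) := by
      ext k
      simp [hcv, X, sub]
      ring_nf
    have ey : sub φ u (((X⁻¹ : Lˣ) : L) * C ya) =
        (((D.cv bB sB)⁻¹ : (LaurentPolynomial B)ˣ) : LaurentPolynomial B) * sub φ 1 (((X⁻¹ : Lˣ) : L) * C ya) := by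
      simp only [hcv, hXi, sub, map_mul, ev_C, ev_T, zpow_neg_one, _root_.mul_inv, ← map_inv, Units.val_mul,
        map_one, Units.val_one, _root_.one_mul]
      ring
    rw [ex, ey] at e1
    obtain ⟨r1, r2, r3⟩ := e1.unique e0
    rw [hcv] at r1 r3
    exact ⟨by rw [r1, ← map_inv]; rfl, r2, by rw [r3]; rfl⟩
  have hbase : ∀ (B : CommRingCat.{u}) (φ : A →+* B) (b' : Spec B ⟶ S)
      (_ : Spec.map (CommRingCat.ofHom φ) ≫ b = b') (u : (B : Type u)ˣ),
      Spec.map (CommRingCat.ofHom (sub φ u)) ≫ bL =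
        Spec.map (CommRingCat.ofHom (C : B →+* LaurentPolynomial B)) ≫ b' := by
    intro B φ b' hb u
    subst hb
    simp only [bL, ← Category.assoc, ← Spec.map_comp, ← CommRingCat.ofHom_comp]
    congr 3
    exact RingHom.ext fun r => ev_C _ _ r
  -- coefficients
  have hcoef : ∀ (R : L) (e : ℤ), (∀ (B : CommRingCat.{u}) (φ : A →+* B) (b' : Spec B ⟶ S),
      Spec.map (CommRingCat.ofHom φ) ≫ b = b' → ∀ s : Over.mk b' ⟶ T',
        sub φ (D.cv (A := B) b' s) R = C (((D.cv (A := B) b' s) ^ e : (B : Type u)ˣ) : B) * sub φ 1 R) →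
      R = C (R.coeff e) * T e := by
    intro R e hR
    refine LaurentPolynomial.ext fun k => ?_
    rw [← LaurentPolynomial.single_eq_C_mul_T, AddMonoidAlgebra.coeff_single, Finsupp.single_apply]
    split_ifs with hk
    · rw [hk]
    · refine eq_zero_of_nondeg_affine (A := CommRingCat.of A) (α := D.α) D.hT D.hα b (k := (k - e).natAbs)
        (Int.natAbs_pos.2 (sub_ne_zero.2 (Ne.symm hk))) _ fun B φ b' hb s => ?_
      have h2 := congrArg (fun p : LaurentPolynomial B => p.coeff k) (hR B φ b' hb s)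
      simp only [coeff_C_mul, coeff_sub, one_zpow, Units.val_one, mul_one] at h2
      show φ (R.coeff k) * ((D.cv (A := B) b' s : (B : Type u)ˣ) ^ (k - e).natAbs - 1 : B) = 0
      set v := D.cv (A := B) b' s
      have e3 : φ (R.coeff k) * ((v ^ (k - e) : (B : Type u)ˣ) : B) = φ (R.coeff k) := by
        rw [zpow_sub, Units.val_mul, ← mul_assoc, h2, mul_comm _ (φ _), mul_assoc, ← Units.val_mul,
          mul_inv_cancel, Units.val_one, mul_one]
      rcases Int.natAbs_eq (k - e) with hn | hn <;> rw [hn] at e3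
      · rw [zpow_natCast, Units.val_pow_eq_pow_val] at e3
        linear_combination e3
      · rw [zpow_neg, zpow_natCast] at e3
        have e4 : (((v ^ (k - e).natAbs)⁻¹ : (B : Type u)ˣ) : B) * (v : B) ^ (k - e).natAbs = 1 := by
          rw [← Units.val_pow_eq_pow_val, Units.inv_mul]
        linear_combination (-((v : B) ^ (k - e).natAbs)) * e3 + φ (R.coeff k) * e4
  have hPc : P = C (P.coeff (-1)) * T (-1) := hcoef P (-1) fun B φ b' hb s => by
    rw [zpow_neg_one]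
    exact (hact B φ b' hb s (hbase B φ b' hb _) (hbase B φ b' hb _)).1
  have hQc : Q = C (Q.coeff 1) * T 1 := hcoef Q 1 fun B φ b' hb s => by
    rw [zpow_one]
    exact (hact B φ b' hb s (hbase B φ b' hb _) (hbase B φ b' hb _)).2.2
  haveI := D.isAffineHom_T
  have hqc : ∀ f, fval (C : A →+* L) (b' := bL) rfl q f = C ((fval (C : A →+* L) (b' := bL) rfl q f).coeff 0) := fun f => by
    conv_lhs => rw [hcoef (fval (C : A →+* L) (b' := bL) rfl q f) 0 (fun B φ b' hb s => by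
      obtain ⟨-, hq, -⟩ := hact B φ b' hb s (hbase B φ b' hb _) (hbase B φ b' hb _)
      have hc : ∀ u : (B : Type u)ˣ, (sub φ u).comp (C : A →+* L) = (C : B →+* LaurentPolynomial B).comp φ :=
        fun u => RingHom.ext fun r => ev_C _ _ r
      have hb2 : Spec.map (CommRingCat.ofHom ((C : B →+* LaurentPolynomial B).comp φ)) ≫ b =
          Spec.map (CommRingCat.ofHom (C : B →+* LaurentPolynomial B)) ≫ b' := by
        rw [CommRingCat.ofHom_comp, Spec.map_comp, Category.assoc, hb]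
      rw [zpow_zero, Units.val_one, map_one, one_mul,
        ← fval_sh' (C : A →+* L) (b' := bL) rfl (sub φ (D.cv (A := B) b' s)) (hbase B φ b' hb _) _ (hc _) hb2 q f,
        ← fval_sh' (C : A →+* L) (b' := bL) rfl (sub φ 1) (hbase B φ b' hb _) _ (hc _) hb2 q f, hq])]
    simp
  have hl := hev l (hbev l)
  have h1 := hev 1 (hbev 1)
  rw [inv_one, Units.val_one, one_mul, one_mul] at h1
  obtain ⟨r1, r2, r3⟩ := h1.unique h
  have r2' : sh _ (hbev l) ≫ q = t := by
    rw [← r2]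
    refine eq_of_fval (φ := RingHom.id A) (b := b) (b' := b) (by simp) fun f => ?_
    rw [fval_sh' (C : A →+* L) (b' := bL) rfl (ev (RingHom.id A) l) (hbev l) _ (RingHom.ext fun r => ev_C _ _ r) _ q f,
      fval_sh' (C : A →+* L) (b' := bL) rfl (ev (RingHom.id A) 1) (hbev 1) _ (RingHom.ext fun r => ev_C _ _ r) _ q f,
      hqc f, ev_C, ev_C]
  rw [hPc, map_mul, ev_C, ev_T, r2', hQc, map_mul, ev_C, ev_T, zpow_neg_one, zpow_one] at hl
  rw [hPc, map_mul, ev_C, ev_T, one_zpow, Units.val_one, mul_one] at r1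
  rw [hQc, map_mul, ev_C, ev_T, one_zpow, Units.val_one, mul_one] at r3
  rw [← r1, ← r3, mul_comm _ ((RingHom.id A) (P.coeff (-1))), mul_comm _ ((RingHom.id A) (Q.coeff 1))]
  exact hl

end RSys

end Groth.Agent.Red23Lib.Rule
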