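import Groth.Agent.Red23Lib.Rule.Universal
import Groth.Agent.RedCell22.GlobalFn

/-!
# The commutation rule for a rank-one system
-/

set_option autoImplicit false
set_option linter.style.haveILetI false

universe u

open CategoryTheory CategoryTheory.Limits AlgebraicGeometry MonoidalCategory CartesianMonoidalCategory
open Groth.Agent.GrpSchLib Groth.Agent.GrpSchLib.RankOne
open scoped MonObj
open LaurentPolynomial (T C)

noncomputable section

namespace Groth.Agent.Red23Lib.Rule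

variable {S : Scheme.{u}}

/-- A function is a unit as soon as it is one on all affine tests. -/
theorem isUnit_of_tests {X : Over S} (f : Γ(X.left, ⊤))
    (h : ∀ (A : CommRingCat.{u}) (b : Spec A ⟶ S) (j : Over.mk b ⟶ X), IsUnit (sval b (j.left.appTop f))) :
    IsUnit f := by
  refine X.left.toLocallyRingedSpace.toRingedSpace.isUnit_of_isUnit_germ ⊤ f fun x _ => ?_
  obtain ⟨i, y, rfl⟩ := X.left.affineCover.exists_eq x
  let j : Over.mk (X.left.affineCover.f i ≫ X.hom) ⟶ X := Over.homMk (X.left.affineCover.f i) rfl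
  have h1 : IsUnit ((X.left.affineCover.f i).appTop f) := by
    have := (h _ _ j).map (sval (X.left.affineCover.f i ≫ X.hom)).symm
    exact (congrArg IsUnit ((sval (X.left.affineCover.f i ≫ X.hom)).symm_apply_apply _)).mp this
  refine (X.left.mem_basicOpen f (X.left.affineCover.f i y) trivial).1 ?_
  show y ∈ (X.left.affineCover.f i) ⁻¹ᵁ X.left.basicOpen f
  rw [Scheme.preimage_basicOpen_top, Scheme.basicOpen_of_isUnit _ h1]
  trivial

variable {G T' : Over S} [GrpObj G] [GrpObj T'] (D : RSys G T')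

namespace RSys

/-- The product of two points. -/
theorem comp_pp_pm {X : Over S} (x y : X ⟶ Red.Ga S) {A : CommRingCat.{u}} {b : Spec A ⟶ S} (j : Over.mk b ⟶ X) :
    j ≫ ((x ≫ D.pp) * (y ≫ D.pm)) =
      D.P (A := A) b (sval b (j.left.appTop (Red.gaFn x))) * D.M (A := A) b (sval b (j.left.appTop (Red.gaFn y))) := by
  rw [← GaPts.gaFn_comp, ← GaPts.gaFn_comp, P, M, gp_sv, gp_sv, MonObj.comp_mul, Category.assoc, Category.assoc]

theorem prod3_congr {X : Over S} {a a' d d' : X ⟶ Red.Ga S} {t t' : X ⟶ G} (h₁ : a = a') (h₂ : t = t')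
    (h₃ : d = d') : (a ≫ D.pm) * t * (d ≫ D.pp) = (a' ≫ D.pm) * t' * (d' ≫ D.pp) := by rw [h₁, h₂, h₃]

variable (hnc : D.NonComm)
include hnc

theorem exists_constant : ∃ c : (Γ(S, ⊤))ˣ, ∀ (A : Type u) [CommRing A] (b : Spec (CommRingCat.of A) ⟶ S),
    RedCell22.glob b (c : Γ(S, ⊤)) = D.der b := by
  obtain ⟨c, hc⟩ := RedCell22.exists_glob (fun A _ b => D.der b) fun _ _ _ _ φ b b' h => D.der_map φ h
  obtain ⟨d, hd⟩ := RedCell22.exists_glob
    (fun A _ b => (((D.aU hnc b)⁻¹ : Aˣ) : A)) fun _ _ _ _ φ b b' h => D.aU_inv_map hnc φ h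
  have e : c * d = 1 := RedCell22.glob_ext fun A _ b => by
    rw [map_mul, map_one, hc, hd, ← D.val_aU hnc b, Units.mul_inv]
  exact ⟨⟨c, d, e, (mul_comm d c).trans e⟩, hc⟩

/-- Membership in the cell. -/
theorem mem_iff (ac : 𝟙_ (Over S) ⟶ Red.Gm S)
    (hac : ∀ (A : Type u) [CommRing A] (b : Spec (CommRingCat.of A) ⟶ S),
      sv b (Red.gmFn (toUnit (tst b) ≫ ac)) = D.der b)
    (X : Over S) (x y : X ⟶ Red.Ga S) :
    (∃ w : X ⟶ (Red.Ga S ⊗ T') ⊗ Red.Ga S, w ≫ cellMap D.i D.pp D.pm = (x ≫ D.pp) * (y ≫ D.pm)) ↔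
      IsUnit (1 + Red.gmFn (toUnit X ≫ ac) * Red.gaFn x * Red.gaFn y) := by
  have hval : ∀ (A : CommRingCat.{u}) (b : Spec A ⟶ S) (j : Over.mk b ⟶ X),
      sval b (j.left.appTop (1 + Red.gmFn (toUnit X ≫ ac) * Red.gaFn x * Red.gaFn y)) =
        1 + D.der (A := A) b * sval b (j.left.appTop (Red.gaFn x)) * sval b (j.left.appTop (Red.gaFn y)) := by
    intro A b j
    rw [map_add, map_one, map_mul, map_mul, map_add, map_one, map_mul, map_mul, ← GmPts.gmFn_comp, ← Category.assoc,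
      show j ≫ toUnit X = toUnit (Over.mk b) from toUnit_unique _ _]
    congr 3
    exact hac A b
  constructor
  · rintro ⟨w, hw⟩
    refine isUnit_of_tests _ fun A b j => ?_
    rw [hval]
    set xv := sval b (j.left.appTop (Red.gaFn x))
    set yv := sval b (j.left.appTop (Red.gaFn y))
    have hmem : D.Mem (A := A) b xv yv := by
      refine ⟨sval b (Red.gaFn (j ≫ w ≫ fst _ _ ≫ fst _ _)), j ≫ w ≫ fst _ _ ≫ snd _ _,
        sval b (Red.gaFn (j ≫ w ≫ snd _ _)), ?_⟩
      unfold Crd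
      rw [← D.comp_pp_pm x y j, ← hw, M, P, gp_sv, gp_sv, ← cell_comp, ← Category.assoc]
      congr 1
      ext <;> simp
    refine isUnit_of_fields _ fun K _ φ => ?_
    obtain ⟨a, t, d, hc⟩ := hmem
    rw [map_add, map_one, map_mul, map_mul, D.der_map (A := A) φ rfl]
    exact (D.field_rule hnc _ _ _).1.1 ⟨_, _, _, hc.map (A := A) φ rfl⟩
  · intro hu
    obtain ⟨a, t, d, e⟩ := exists_coords D.hΩ ((x ≫ D.pp) * (y ≫ D.pm)) fun K hK b j _ => by
      letI := hK.toField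
      have h1 : IsUnit (sval b (j.left.appTop (1 + Red.gmFn (toUnit X ≫ ac) * Red.gaFn x * Red.gaFn y))) :=
        (hu.map j.left.appTop.hom).map (sval b)
      rw [hval] at h1
      obtain ⟨a, t, d, hc⟩ := (D.field_rule hnc (K := K) b _ _).1.2 h1.ne_zero
      exact ⟨gp b a, t, gp b d, (D.comp_pp_pm x y j).trans hc⟩
    exact ⟨lift (lift a t) d, (cell_comp D.i D.pp D.pm a t d).trans e.symm⟩

set_option maxHeartbeats 1000000 in
/-- The cocharacter. -/
theorem exists_cochar :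
    ∃ av : Red.Gm S ⟶ T', IsMonHom av ∧ av ≫ D.α = (𝟙 (Red.Gm S)) ^ 2 ∧
      ∀ (A : Type u) [CommRing A] (b : Spec (CommRingCat.of A) ⟶ S) (z : Aˣ) (x y : A),
        (z : A) = 1 + D.der b * x * y →
        D.P b x * D.M b y =
          D.M b (((z⁻¹ : Aˣ) : A) * y) *
            (GmPts.ptOfUnit (Units.map (sv b).symm.toMonoidHom z) ≫ av ≫ D.i) *
            D.P b (((z⁻¹ : Aˣ) : A) * x) := by
  obtain ⟨c, hc⟩ := D.exists_constant hnc
  let c₁ : (Γ((Red.Gm S).left, ⊤))ˣ := Units.map (Red.Gm S).hom.appTop.hom.toMonoidHom c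
  let x₀ : Red.Gm S ⟶ Red.Ga S := GaPts.ptOfFn 1
  let y₀ : Red.Gm S ⟶ Red.Ga S :=
    GaPts.ptOfFn ((Red.gmFn (𝟙 (Red.Gm S)) - 1) * ((c₁⁻¹ : _ˣ) : Γ((Red.Gm S).left, ⊤)))
  have hcb : ∀ (A : CommRingCat.{u}) (b : Spec A ⟶ S) (j : Over.mk b ⟶ Red.Gm S),
      sval b (j.left.appTop (c₁ : Γ((Red.Gm S).left, ⊤))) = D.der (A := A) b := by
    intro A b j
    rw [← hc A b]
    show sval b (j.left.appTop ((Red.Gm S).hom.appTop (c : Γ(S, ⊤)))) = _
    rw [← GmPts.appTop_comp_apply, Over.w j]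
    rfl
  have hval : ∀ (A : CommRingCat.{u}) (b : Spec A ⟶ S) (j : Over.mk b ⟶ Red.Gm S),
      sval b (j.left.appTop (Red.gaFn y₀)) =
        ((D.aU (A := A) hnc b)⁻¹ : (A : Type u)ˣ) * (sval b (Red.gmFn j) - 1) := by
    intro A b j
    rw [GaPts.gaFn_ptOfFn, map_mul, map_sub, map_one, ← GmPts.gmFn_comp, Category.comp_id, map_mul, map_sub, map_one,
      mul_comm]
    congr 1
    refine (D.aU (A := A) hnc b).isUnit.mul_left_cancel ?_
    rw [Units.mul_inv, D.val_aU, ← hcb A b j, ← map_mul, ← map_mul, Units.mul_inv, map_one, map_one]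
  obtain ⟨a₀, av, d₀, hav⟩ := exists_coords D.hΩ ((x₀ ≫ D.pp) * (y₀ ≫ D.pm)) fun K hK b j _ => by
    letI := hK.toField
    obtain ⟨a, t, d, hcr⟩ := exists_ncrd (D := D) (hnc := hnc) (A := K) (b := b) (x := 1) (y := sval b (Red.gmFn j) - 1) (by
      rw [one_mul, add_sub_cancel]
      exact (GmPts.isUnit_gmFn j).map (sval b))
    refine ⟨gp b (((D.aU hnc b)⁻¹ : (K : Type u)ˣ) * a), t, gp b d, (D.comp_pp_pm x₀ y₀ j).trans ?_⟩
    rw [hval, GaPts.gaFn_ptOfFn, map_one, map_one]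
    exact hcr
  -- the value of the cocharacter
  have key : ∀ (A : CommRingCat.{u}) (b : Spec A ⟶ S) (k : Over.mk b ⟶ Red.Gm S) (τ : tst (tBase (A := A) b) ⟶ T'),
      D.NCrd (A := LaurentPolynomial A) hnc (tBase (A := A) b) 1 (T 1 - 1) ((T 1 - 1) * T (-1)) τ (T (-1)) →
      ∀ (z : (A : Type u)ˣ), (z : A) = sval b (Red.gmFn k) →
      ∀ h : Spec.map (CommRingCat.ofHom (ev (RingHom.id A) z)) ≫ tBase (A := A) b = b,
        k ≫ av = sh (B := A) _ h ≫ τ := by
    intro A b k τ hτ z hz h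
    have h1 := hτ.map (B := A) _ h
    rw [map_one, map_sub, map_one, ev_T, zpow_one, hz] at h1
    have h2 := congrArg (k ≫ ·) hav
    have hx0 : sval b (k.left.appTop (Red.gaFn x₀)) = 1 := by rw [GaPts.gaFn_ptOfFn, map_one, map_one]
    simp only [D.comp_pp_pm x₀ y₀ k, hval, hx0] at h2
    unfold NCrd Crd at h1
    rw [h1, MonObj.comp_mul, MonObj.comp_mul, M, P] at h2
    simp only [← Category.assoc] at h2
    exact ((cell_ext D.hΩ h2).2.1).symm
  have hunit : ∀ (A : CommRingCat.{u}) (b : Spec A ⟶ S) (k : Over.mk b ⟶ Red.Gm S),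
      ∃ z : (A : Type u)ˣ, (z : A) = sval b (Red.gmFn k) := fun A b k =>
    ⟨((GmPts.isUnit_gmFn k).map (sval b)).unit, rfl⟩
  have hid : ∀ (A : CommRingCat.{u}) (b : Spec A ⟶ S) (z : (A : Type u)ˣ),
      Spec.map (CommRingCat.ofHom (ev (RingHom.id A) z)) ≫ tBase (A := A) b = b := fun A b z =>
    tBase_ev (A := A) (B := A) _ (by simp) z
  refine ⟨av, RankOne.isMonHom_of_comp av fun Y k k' => ext_spec fun A b j => ?_, ?_, ?_⟩
  · obtain ⟨τ, hτ, -, hmul⟩ := universal_coords (D := D) (hnc := hnc) (A := A) b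
    obtain ⟨z, hz⟩ := hunit A b (j ≫ k)
    obtain ⟨z', hz'⟩ := hunit A b (j ≫ k')
    rw [MonObj.comp_mul, ← Category.assoc, ← Category.assoc, ← Category.assoc, MonObj.comp_mul,
      key A b (j ≫ k) τ hτ z hz (hid A b z), key A b (j ≫ k') τ hτ z' hz' (hid A b z'),
      key A b ((j ≫ k) * (j ≫ k')) τ hτ (z * z')
        (by rw [Units.val_mul, GmPts.gmFn_mul, map_mul, hz, hz']) (hid A b (z * z'))]
    let Gm2 : L2 A →+* A := ev (ev (RingHom.id A) z) z'
    have hG : Spec.map (CommRingCat.ofHom Gm2) ≫ zqBase (A := A) b = b := by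
      rw [zqBase, ← Category.assoc, ← Spec.map_comp, ← CommRingCat.ofHom_comp,
        show Gm2.comp (scal : (A : Type u) →+* L2 A) = RingHom.id A from RingHom.ext fun r => by
          simp [Gm2, scal]]
      simp
    have hx : ∀ (w : (L2 A)ˣ) (v : (A : Type u)ˣ) (_ : Units.map Gm2.toMonoidHom w = v)
        (h : Spec.map (CommRingCat.ofHom (ev scal w)) ≫ tBase (A := A) b = zqBase (A := A) b),
        sh (B := A) Gm2 hG ≫ sh (ev scal w) h ≫ τ = sh (B := A) _ (hid A b v) ≫ τ := by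
      intro w v hv h
      rw [← Category.assoc]
      congr 1
      ext1
      simp only [Over.comp_left, specHom, Over.homMk_left, ← Spec.map_comp, ← CommRingCat.ofHom_comp]
      rw [comp_ev, hv, show Gm2.comp (scal : (A : Type u) →+* L2 A) = RingHom.id A from RingHom.ext fun r => by
        simp [Gm2, scal]]
    have h2 : ∀ w : (L2 A)ˣ, Spec.map (CommRingCat.ofHom (ev scal w)) ≫ tBase (A := A) b = zqBase (A := A) b :=
      fun w => tBase_ev scal rfl w
    have h3 := congrArg (sh (B := A) Gm2 hG ≫ ·) (hmul (h2 _) (h2 _) (h2 _))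
    simp only [MonObj.comp_mul] at h3
    rw [hx zv z (Units.ext (by simp [Gm2, val_zv])) (h2 _), hx qv z' (Units.ext (by simp [Gm2, val_qv])) (h2 _),
      hx (zv * qv) (z * z') (Units.ext (by simp [Gm2, val_zv, val_qv])) (h2 _)] at h3
    exact h3
  · refine ext_spec fun A b j => GmPts.gmFn_injective ((sval b).injective ?_)
    obtain ⟨τ, hτ, hcv, -⟩ := universal_coords (D := D) (hnc := hnc) (A := A) b
    obtain ⟨z, hz⟩ := hunit A b j
    show sval b (Red.gmFn _) = sval b (Red.gmFn _)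
    rw [← Category.assoc, key A b j τ hτ z hz (hid A b z), MonObj.comp_pow, Category.comp_id, pow_two,
      GmPts.gmFn_mul, map_mul, ← hz]
    have h1 := D.cv_sh (B := A) (ev (RingHom.id A) z) (hid A b z) τ
    rw [hcv, map_pow, ev_T, zpow_one, pow_two] at h1
    exact h1
  · intro A _ b z x y hz
    have hz' : (z : A) = 1 + x * ((D.aU hnc b : A) * y) := by rw [hz, D.val_aU]; ring
    obtain ⟨τ, hτ, hr⟩ := exists_rule (D := D) (hnc := hnc) b hz'
    have h1 := hr (hid (CommRingCat.of A) b z)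
    unfold NCrd Crd at h1
    rw [mul_left_comm (((z⁻¹ : Aˣ) : A)) (D.aU hnc b : A) y, Units.inv_mul_cancel_left,
      Units.inv_mul_cancel_left] at h1
    rw [h1, ← Category.assoc, key (CommRingCat.of A) b (GmPts.ptOfUnit (Units.map (sv b).symm.toMonoidHom z)) τ hτ z
      (by
        rw [GmPts.gmFn_ptOfUnit]
        exact ((sv b).apply_symm_apply (z : A)).symm) (hid (CommRingCat.of A) b z)]

set_option maxHeartbeats 1000000 in
/-- The commutation rule, with uniqueness. -/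
theorem existsUnique_rule :
    ∃! q : (𝟙_ (Over S) ⟶ Red.Gm S) × (Red.Gm S ⟶ T'), IsMonHom q.2 ∧ q.2 ≫ D.α = (𝟙 (Red.Gm S)) ^ 2 ∧
      ∀ (X : Over S) (x y : X ⟶ Red.Ga S),
        ((∃ w : X ⟶ (Red.Ga S ⊗ T') ⊗ Red.Ga S, w ≫ cellMap D.i D.pp D.pm = (x ≫ D.pp) * (y ≫ D.pm)) ↔
          IsUnit (1 + Red.gmFn (toUnit X ≫ q.1) * Red.gaFn x * Red.gaFn y)) ∧
        (IsUnit (1 + Red.gmFn (toUnit X ≫ q.1) * Red.gaFn x * Red.gaFn y) →
          ∃ (x' y' : X ⟶ Red.Ga S) (z : X ⟶ Red.Gm S),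
            Red.gmFn z = 1 + Red.gmFn (toUnit X ≫ q.1) * Red.gaFn x * Red.gaFn y ∧
            Red.gaFn x' * Red.gmFn z = Red.gaFn x ∧ Red.gaFn y' * Red.gmFn z = Red.gaFn y ∧
            (x ≫ D.pp) * (y ≫ D.pm) = (y' ≫ D.pm) * (z ≫ q.2 ≫ D.i) * (x' ≫ D.pp)) := by
  obtain ⟨c, hc⟩ := D.exists_constant hnc
  obtain ⟨ac, hac⟩ : ∃ ac : 𝟙_ (Over S) ⟶ Red.Gm S, ∀ (A : Type u) [CommRing A] (b : Spec (CommRingCat.of A) ⟶ S),
      sv b (Red.gmFn (toUnit (tst b) ≫ ac)) = D.der b := ⟨GmPts.ptOfUnit c, fun A _ b => by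
    rw [GmPts.gmFn_comp, GmPts.gmFn_ptOfUnit, ← hc A b, Over.toUnit_left]
    rfl⟩
  obtain ⟨av, hav1, hav2, hav3⟩ := D.exists_cochar hnc
  refine ⟨(ac, av), ⟨hav1, hav2, fun X x y => ⟨D.mem_iff hnc ac hac X x y, fun hu => ?_⟩⟩, ?_⟩
  · let uz : (Γ(X.left, ⊤))ˣ := hu.unit
    refine ⟨GaPts.ptOfFn (((uz⁻¹ : _ˣ) : Γ(X.left, ⊤)) * Red.gaFn x),
      GaPts.ptOfFn (((uz⁻¹ : _ˣ) : Γ(X.left, ⊤)) * Red.gaFn y), GmPts.ptOfUnit uz, ?_, ?_, ?_, ?_⟩
    · rw [GmPts.gmFn_ptOfUnit]; rfl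
    · rw [GaPts.gaFn_ptOfFn, GmPts.gmFn_ptOfUnit]; linear_combination Red.gaFn x * uz.inv_mul
    · rw [GaPts.gaFn_ptOfFn, GmPts.gmFn_ptOfUnit]; linear_combination Red.gaFn y * uz.inv_mul
    · refine ext_spec fun A b j => ?_
      let uv : (A : Type u)ˣ := Units.map ((sval b).toRingHom.comp j.left.appTop.hom).toMonoidHom uz
      have huv : (uv : A) = 1 + D.der (A := A) b * sval b (j.left.appTop (Red.gaFn x)) *
          sval b (j.left.appTop (Red.gaFn y)) := by
        show sval b (j.left.appTop (1 + Red.gmFn (toUnit X ≫ ac) * Red.gaFn x * Red.gaFn y)) = _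
        rw [map_add, map_one, map_mul, map_mul, map_add, map_one, map_mul, map_mul, ← GmPts.gmFn_comp,
          ← Category.assoc, show j ≫ toUnit X = toUnit (Over.mk b) from toUnit_unique _ _]
        congr 3
        exact hac A b
      rw [D.comp_pp_pm x y j, hav3 A b uv _ _ huv, MonObj.comp_mul, MonObj.comp_mul, ← Category.assoc j,
        ← Category.assoc j, ← Category.assoc j, GmPts.ptOfUnit_comp, M, P]
      refine D.prod3_congr ?_ ?_ ?_
      · refine GaPts.gaFn_injective ?_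
        show Red.gaFn _ = Red.gaFn _
        rw [gp, GaPts.gaFn_ptOfFn, GaPts.gaFn_comp, GaPts.gaFn_ptOfFn]
        refine (sval b).injective ?_
        rw [RingEquiv.apply_symm_apply, map_mul, map_mul]
        rfl
      · refine congrArg (fun v => GmPts.ptOfUnit v ≫ av ≫ D.i) ?_
        refine Units.ext ((sval b).injective ?_)
        exact (sval b).apply_symm_apply _
      · refine GaPts.gaFn_injective ?_
        show Red.gaFn _ = Red.gaFn _
        rw [gp, GaPts.gaFn_ptOfFn, GaPts.gaFn_comp, GaPts.gaFn_ptOfFn]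
        refine (sval b).injective ?_
        rw [RingEquiv.apply_symm_apply, map_mul, map_mul]
        rfl
  · rintro ⟨ac', av'⟩ ⟨-, -, hrule⟩
    have hac' : ∀ (A : CommRingCat.{u}) (b : Spec A ⟶ S),
        sval b (Red.gmFn (toUnit (Over.mk b) ≫ ac')) = D.der (A := A) b := by
      intro A b
      set a' := sval b (Red.gmFn (toUnit (Over.mk b) ≫ ac')) with ha'
      have hbase : Red.gmFn (toUnit (tst (dBase (A := A) b)) ≫ ac') = (sv _).symm (dinl A a') := by
        refine (sv (dBase (A := A) b)).injective ?_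
        rw [RingEquiv.apply_symm_apply,
          show toUnit (tst (dBase (A := A) b)) = sh (A := A) (dinl A) (b' := dBase (A := A) b) rfl ≫ toUnit (Over.mk b)
            from toUnit_unique _ _, Category.assoc, GmPts.gmFn_comp]
        exact sv_sh (A := A) _ _ _
      have hfn : 1 + Red.gmFn (toUnit (tst (dBase (A := A) b)) ≫ ac') * Red.gaFn (gp (dBase (A := A) b) 1) *
          Red.gaFn (gp (dBase (A := A) b) DualNumber.eps) =
            (sv (dBase (A := A) b)).symm (1 + dinl A a' * DualNumber.eps) := by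
        rw [hbase, gp, gp, GaPts.gaFn_ptOfFn, GaPts.gaFn_ptOfFn, map_add, map_one, map_mul, mul_one]
      have hunit : IsUnit (1 + Red.gmFn (toUnit (tst (dBase (A := A) b)) ≫ ac') * Red.gaFn (gp (dBase (A := A) b) 1) *
          Red.gaFn (gp (dBase (A := A) b) DualNumber.eps)) := by
        rw [hfn]
        refine IsUnit.map _ ?_
        rw [TrivSqZeroExt.isUnit_iff_isUnit_fst]
        simp [dinl]
      obtain ⟨x', y', z, hz, hx', -, heq⟩ := (hrule _ (gp (dBase (A := A) b) 1) (gp _ DualNumber.eps)).2 hunit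
      obtain ⟨a, t, hcrd⟩ := D.crd_eps (A := A) b
      have h1 : D.Crd (dBase (A := A) b) 1 DualNumber.eps (sv _ (Red.gaFn y')) (z ≫ av') (sv _ (Red.gaFn x')) := by
        unfold Crd
        rw [P, M, M, P, gp_sv, gp_sv, Category.assoc]
        exact heq
      have h2 := congrArg (sv (dBase (A := A) b)) hx'
      rw [map_mul, hz, hfn, RingEquiv.apply_symm_apply, (h1.unique hcrd).2.2, gp, GaPts.gaFn_ptOfFn,
        RingEquiv.apply_symm_apply] at h2
      have h3 := congrArg TrivSqZeroExt.snd h2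
      simp [dinl] at h3
      linear_combination h3
    have e1 : ac' = ac := ext_spec fun A b j => GmPts.gmFn_injective ((sval b).injective (by
      show sval b (Red.gmFn _) = sval b (Red.gmFn _)
      rw [toUnit_unique j (toUnit (Over.mk b)), hac' A b]
      exact (hac A b).symm))
    rw [e1] at hrule
    refine Prod.ext e1 ?_
    let x₀ : Red.Gm S ⟶ Red.Ga S := GaPts.ptOfFn 1
    let ci : (Γ((Red.Gm S).left, ⊤))ˣ := GmPts.unitOfPt (toUnit (Red.Gm S) ≫ ac)
    let y₀ : Red.Gm S ⟶ Red.Ga S :=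
      GaPts.ptOfFn ((Red.gmFn (𝟙 (Red.Gm S)) - 1) * ((ci⁻¹ : _ˣ) : Γ((Red.Gm S).left, ⊤)))
    have hz0 : 1 + Red.gmFn (toUnit (Red.Gm S) ≫ ac) * Red.gaFn x₀ * Red.gaFn y₀ = Red.gmFn (𝟙 (Red.Gm S)) := by
      rw [GaPts.gaFn_ptOfFn, GaPts.gaFn_ptOfFn, mul_one, ← GmPts.val_unitOfPt, mul_left_comm, Units.mul_inv, mul_one,
        add_sub_cancel]
    have hu0 : IsUnit (1 + Red.gmFn (toUnit (Red.Gm S) ≫ ac) * Red.gaFn x₀ * Red.gaFn y₀) := by
      rw [hz0]
      exact GmPts.isUnit_gmFn _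
    obtain ⟨x', y', z, hz, -, -, heq⟩ := (hrule _ x₀ y₀).2 hu0
    have hz1 : z = 𝟙 _ := GmPts.gmFn_injective (hz.trans hz0)
    -- the same decomposition for the constructed cocharacter
    have hav : ∃ x'' y'', (x₀ ≫ D.pp) * (y₀ ≫ D.pm) = (y'' ≫ D.pm) * (av ≫ D.i) * (x'' ≫ D.pp) := by
      refine ⟨GaPts.ptOfFn (((hu0.unit⁻¹ : _ˣ) : Γ((Red.Gm S).left, ⊤)) * Red.gaFn x₀),
        GaPts.ptOfFn (((hu0.unit⁻¹ : _ˣ) : Γ((Red.Gm S).left, ⊤)) * Red.gaFn y₀), ?_⟩
      refine ext_spec fun A b j => ?_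
      let uv : (A : Type u)ˣ := Units.map ((sval b).toRingHom.comp j.left.appTop.hom).toMonoidHom hu0.unit
      have huv : (uv : A) = 1 + D.der (A := A) b * sval b (j.left.appTop (Red.gaFn x₀)) *
          sval b (j.left.appTop (Red.gaFn y₀)) := by
        show sval b (j.left.appTop (1 + Red.gmFn (toUnit (Red.Gm S) ≫ ac) * Red.gaFn x₀ * Red.gaFn y₀)) = _
        rw [map_add, map_one, map_mul, map_mul, map_add, map_one, map_mul, map_mul, ← GmPts.gmFn_comp,
          ← Category.assoc, show j ≫ toUnit (Red.Gm S) = toUnit (Over.mk b) from toUnit_unique _ _]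
        congr 3
        exact hac A b
      rw [D.comp_pp_pm x₀ y₀ j, hav3 A b uv _ _ huv, MonObj.comp_mul, MonObj.comp_mul, ← Category.assoc j,
        ← Category.assoc j, ← Category.assoc j, M, P]
      refine D.prod3_congr ?_ ?_ ?_
      · refine GaPts.gaFn_injective ?_
        show Red.gaFn _ = Red.gaFn _
        rw [gp, GaPts.gaFn_ptOfFn, GaPts.gaFn_comp, GaPts.gaFn_ptOfFn (((hu0.unit⁻¹ : _ˣ) : Γ((Red.Gm S).left, ⊤)) * Red.gaFn y₀)]
        refine (sval b).injective ?_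
        rw [RingEquiv.apply_symm_apply, map_mul, map_mul]
        rfl
      · rw [Category.assoc]
        congr 1
        refine GmPts.gmFn_injective ((sval b).injective ?_)
        show sval b (Red.gmFn _) = sval b (Red.gmFn j)
        rw [GmPts.gmFn_ptOfUnit]
        refine ((sval b).apply_symm_apply _).trans ?_
        show sval b (j.left.appTop (hu0.unit : Γ((Red.Gm S).left, ⊤))) = _
        rw [IsUnit.unit_spec, hz0, ← GmPts.gmFn_comp, Category.comp_id]
      · refine GaPts.gaFn_injective ?_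
        show Red.gaFn _ = Red.gaFn _
        rw [gp, GaPts.gaFn_ptOfFn, GaPts.gaFn_comp, GaPts.gaFn_ptOfFn (((hu0.unit⁻¹ : _ˣ) : Γ((Red.Gm S).left, ⊤)) * Red.gaFn x₀)]
        refine (sval b).injective ?_
        rw [RingEquiv.apply_symm_apply, map_mul, map_mul]
        rfl
    obtain ⟨x'', y'', h⟩ := hav
    rw [hz1, Category.id_comp, h] at heq
    exact ((cell_ext D.hΩ heq).2.1).symm

end RSys

end Groth.Agent.Red23Lib.Rule
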