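import Groth.Agent.Red23Lib.Rule.Homog
import Mathlib.RingTheory.Localization.Away.Basic
import Mathlib.Algebra.Polynomial.Coeff

/-!
# The universal computation
-/

set_option autoImplicit false
set_option linter.style.haveILetI false

universe u

open CategoryTheory CategoryTheory.Limits AlgebraicGeometry MonoidalCategory CartesianMonoidalCategory
open Groth.Agent.GrpSchLib Groth.Agent.GrpSchLib.RankOne
open scoped MonObj Polynomial
open LaurentPolynomial (T C)

noncomputable section

namespace Groth.Agent.Red23Lib.Rule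

/-- The coordinate of `A[T;T⁻¹]` as a unit. -/
abbrev tu (A : Type u) [CommRing A] : (LaurentPolynomial A)ˣ := (LaurentPolynomial.isUnit_T (R := A) 1).unit

theorem val_tu (A : Type u) [CommRing A] : ((tu A : (LaurentPolynomial A)ˣ) : LaurentPolynomial A) = T 1 := rfl

theorem mul_T_sub_one_eq_zero {R : Type u} [CommRing R] {p : LaurentPolynomial R}
    (h : p * (T 1 - 1) = 0) : p = 0 := by
  by_contra hp
  have hne : p.coeff.support.Nonempty :=
    Finsupp.support_nonempty_iff.2 fun h0 => hp (AddMonoidAlgebra.ext h0)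
  set N := p.coeff.support.max' hne with hN
  have hN1 : p.coeff (N + 1) = 0 := Finsupp.notMem_support_iff.1 fun hmem => by
    have := p.coeff.support.le_max' _ hmem
    omega
  have h1 := congrArg (fun q : LaurentPolynomial R => q.coeff (N + 1)) h
  simp only [mul_sub, mul_one, AddMonoidAlgebra.coeff_sub, Finsupp.sub_apply, AddMonoidAlgebra.coeff_zero,
    Finsupp.zero_apply, hN1, sub_zero] at h1
  have e : (p * T 1).coeff (N + 1) = p.coeff N := by
    rw [LaurentPolynomial.T]
    exact (AddMonoidAlgebra.coeff_mul_single_eq_coeff_mul (x := p) (m := (1 : ℤ)) (r := (1 : R)) (m₁ := N + 1) N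
      (fun m' _ => by omega)).trans (mul_one _)
  rw [e] at h1
  exact Finsupp.mem_support_iff.1 (p.coeff.support.max'_mem hne) h1

theorem C_inj {R : Type u} [CommRing R] : Function.Injective (C : R →+* LaurentPolynomial R) := fun r r' h => by
  simpa [LaurentPolynomial.C_apply] using congrArg (fun q : LaurentPolynomial R => q.coeff 0) h

theorem isNilpotent_coeff {A : Type u} [CommRing A] {p : LaurentPolynomial A} (hp : IsNilpotent p) (k : ℤ) :
    IsNilpotent (p.coeff k) := by
  rw [nilpotent_iff_mem_prime]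
  intro P hP
  let π := Ideal.Quotient.mk P
  have h0 : ev ((C : A ⧸ P →+* LaurentPolynomial (A ⧸ P)).comp π) (tu (A ⧸ P)) p = 0 := by
    obtain ⟨n, hn⟩ := hp.map (ev ((C : A ⧸ P →+* LaurentPolynomial (A ⧸ P)).comp π) (tu (A ⧸ P)))
    haveI : IsDomain (LaurentPolynomial (A ⧸ P)) := NoZeroDivisors.to_isDomain _
    exact pow_eq_zero_iff'.1 hn |>.1
  have := coeff_map π p k
  rw [h0] at this
  exact Ideal.Quotient.eq_zero_iff_mem.1 (by simpa using this.symm)

variable {S : Scheme.{u}} {G T' : Over S} [GrpObj G] [GrpObj T'] (D : RSys G T') (hnc : D.NonComm)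

namespace RSys

variable {A B : Type u} [CommRing A] [CommRing B] (b : Spec (CommRingCat.of A) ⟶ S)

/-- The base of the universal unit. -/
abbrev tBase : Spec (CommRingCat.of (LaurentPolynomial A)) ⟶ S :=
  Spec.map (CommRingCat.ofHom (C : A →+* LaurentPolynomial A)) ≫ b

theorem tBase_ev {b} (φ : A →+* B) {b' : Spec (CommRingCat.of B) ⟶ S}
    (h : Spec.map (CommRingCat.ofHom φ) ≫ b = b') (z : Bˣ) :
    Spec.map (CommRingCat.ofHom (ev φ z)) ≫ tBase b = b' := by
  rw [tBase, ← Category.assoc, ← Spec.map_comp, ← CommRingCat.ofHom_comp,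
    show (ev φ z).comp C = φ from RingHom.ext fun r => ev_C φ z r, h]

/-- The base of two universal units. -/
abbrev zqBase : Spec (CommRingCat.of (L2 A)) ⟶ S :=
  Spec.map (CommRingCat.ofHom (scal : A →+* L2 A)) ≫ b

variable {D hnc}

set_option maxHeartbeats 2000000 in
/-- The coordinates of the universal point. -/
theorem universal_coords :
    ∃ τ : tst (tBase b) ⟶ T',
      D.NCrd hnc (tBase b) 1 (T 1 - 1) ((T 1 - 1) * T (-1)) τ (T (-1)) ∧
      (D.cv (tBase b) τ : LaurentPolynomial A) = T 1 ^ 2 ∧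
      ∀ (hz : Spec.map (CommRingCat.ofHom (ev scal (zv : (L2 A)ˣ))) ≫ tBase b = zqBase b)
        (hq : Spec.map (CommRingCat.ofHom (ev scal (qv : (L2 A)ˣ))) ≫ tBase b = zqBase b)
        (hw : Spec.map (CommRingCat.ofHom (ev scal ((zv : (L2 A)ˣ) * qv))) ≫ tBase b = zqBase b),
        sh _ hw ≫ τ = (sh _ hz ≫ τ) * (sh _ hq ≫ τ) := by
  -- the points `(1, T - 1)` and `(T - 1, 1)`
  obtain ⟨ga, τ, g, hg⟩ : ∃ a t d, D.NCrd hnc (tBase b) 1 (T 1 - 1) a t d := exists_ncrd (by
    rw [one_mul, add_sub_cancel]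
    exact LaurentPolynomial.isUnit_T 1)
  obtain ⟨Bc, τ', Bd, hB⟩ : ∃ a t d, D.NCrd hnc (tBase b) (T 1 - 1) 1 a t d := exists_ncrd (by
    rw [mul_one, add_sub_cancel]
    exact LaurentPolynomial.isUnit_T 1)
  have hgn : IsNilpotent (g * T 1 - 1) := isNilpotent_of_fields _ fun K _ φ => by
    have h1 := ((field_nrule _ _).2 _ _ _ (hg.map φ rfl)).1
    rw [map_one, one_mul, map_sub, map_one, add_sub_cancel] at h1
    rw [map_sub, map_mul, map_one, h1, sub_self]
  have hBn : IsNilpotent (Bc * T 1 - 1) := isNilpotent_of_fields _ fun K _ φ => by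
    have h1 := ((field_nrule _ _).2 _ _ _ (hB.map φ rfl)).2
    rw [map_one, mul_one, map_sub, map_one, add_sub_cancel] at h1
    rw [map_sub, map_mul, map_one, h1, sub_self]
  obtain ⟨gu, hgu⟩ : IsUnit g := isUnit_of_fields _ fun K _ φ e => one_ne_zero (α := K) (by
    have := (hgn.map φ).eq_zero
    rw [map_sub, map_mul, e, zero_mul, map_one, zero_sub, neg_eq_zero] at this
    exact this)
  obtain ⟨Bu, hBu⟩ : IsUnit Bc := isUnit_of_fields _ fun K _ φ e => one_ne_zero (α := K) (by
    have := (hBn.map φ).eq_zero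
    rw [map_sub, map_mul, e, zero_mul, map_one, zero_sub, neg_eq_zero] at this
    exact this)
  set h : LaurentPolynomial A := ((gu⁻¹ : (LaurentPolynomial A)ˣ) : LaurentPolynomial A) with hh
  set k : LaurentPolynomial A := ((Bu⁻¹ : (LaurentPolynomial A)ˣ) : LaurentPolynomial A) with hk
  have hgh : g * h = 1 := by rw [hh, ← hgu, Units.mul_inv]
  have hBk : Bc * k = 1 := by rw [hk, ← hBu, Units.mul_inv]
  have hhn : ∀ i, IsNilpotent ((h - T 1).coeff i) := fun i => isNilpotent_coeff (by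
    rw [show h - T 1 = -(h * (g * T 1 - 1)) by linear_combination (T 1) * hgh]
    exact ((Commute.all h _).isNilpotent_mul_left hgn).neg) i
  have hkn : ∀ i, IsNilpotent ((k - T 1).coeff i) := fun i => isNilpotent_coeff (by
    rw [show k - T 1 = -(k * (Bc * T 1 - 1)) by linear_combination (T 1) * hBk]
    exact ((Commute.all k _).isNilpotent_mul_left hBn).neg) i
  -- specialisations
  have hb2 : ∀ x : (L2 A)ˣ, Spec.map (CommRingCat.ofHom (ev scal x)) ≫ tBase b = zqBase b := fun x =>
    tBase_ev scal rfl x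
  have sg : ∀ x : (L2 A)ˣ, D.NCrd hnc (zqBase b) 1 ((x : L2 A) - 1) (ev scal x ga) (sh _ (hb2 x) ≫ τ) (ev scal x g) :=
    fun x => by
      have h1 := hg.map _ (hb2 x)
      rw [map_one, map_sub, map_one, ev_T, zpow_one] at h1
      exact h1
  have sB : ∀ x : (L2 A)ˣ, D.NCrd hnc (zqBase b) ((x : L2 A) - 1) 1 (ev scal x Bc) (sh _ (hb2 x) ≫ τ') (ev scal x Bd) :=
    fun x => by
      have h1 := hB.map _ (hb2 x)
      rw [map_one, map_sub, map_one, ev_T, zpow_one] at h1
      exact h1
  -- the two functional equations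
  have egh : ∀ x : (L2 A)ˣ, ev scal x g * ev scal x h = 1 := fun x => by rw [← map_mul, hgh, map_one]
  have eBk : ∀ x : (L2 A)ˣ, ev scal x Bc * ev scal x k = 1 := fun x => by rw [← map_mul, hBk, map_one]
  have addg : ∃ w : (L2 A)ˣ, (w : L2 A) = (zv : (L2 A)ˣ).val + ((qv : (L2 A)ˣ).val - 1) * ev scal zv h ∧
      ev scal w ga = ev scal zv ga + (((D.cv (zqBase b) (sh _ (hb2 zv) ≫ τ))⁻¹ : (L2 A)ˣ) : L2 A) *
        (ev scal zv h * ev scal qv ga) ∧
      sh _ (hb2 w) ≫ τ = (sh _ (hb2 zv) ≫ τ) * (sh _ (hb2 qv) ≫ τ) ∧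
      ev scal w g = ev scal zv g * ev scal qv g := by
    let l : (L2 A)ˣ := ⟨ev scal zv g, ev scal zv h, egh _, by rw [mul_comm]; exact egh _⟩
    have h2 := (sg qv).homog l
    rw [show ((l : (L2 A)ˣ) : L2 A) = ev scal zv g from rfl, show ((l⁻¹ : (L2 A)ˣ) : L2 A) = ev scal zv h from rfl,
      mul_one] at h2
    have h3 := (sg zv).add_right h2
    obtain ⟨w, hw⟩ : IsUnit ((zv : (L2 A)ˣ).val + ((qv : (L2 A)ˣ).val - 1) * ev scal zv h) := by
      have h4 := h3.isUnit
      rw [one_mul, show (1 : L2 A) + (((zv : (L2 A)ˣ).val - 1) + ev scal zv h * ((qv : (L2 A)ˣ).val - 1)) =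
        (zv : (L2 A)ˣ).val + ((qv : (L2 A)ˣ).val - 1) * ev scal zv h by ring] at h4
      exact h4
    have h5 := sg w
    rw [hw, show (zv : (L2 A)ˣ).val + ((qv : (L2 A)ˣ).val - 1) * ev scal zv h - 1 =
      ((zv : (L2 A)ˣ).val - 1) + ev scal zv h * ((qv : (L2 A)ˣ).val - 1) by ring] at h5
    obtain ⟨r1, r2, r3⟩ := h5.unique h3
    exact ⟨w, hw, r1, r2, r3⟩
  have addB : FunEq k := by
    let l : (L2 A)ˣ := ⟨ev scal zv k, ev scal zv Bc, (mul_comm _ _).trans (eBk _), eBk _⟩
    have h2 := (sB qv).homog l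
    rw [show ((l : (L2 A)ˣ) : L2 A) = ev scal zv k from rfl, show ((l⁻¹ : (L2 A)ˣ) : L2 A) = ev scal zv Bc from rfl,
      mul_one] at h2
    have h3 := (sB zv).add_left h2
    obtain ⟨w, hw⟩ : IsUnit ((zv : (L2 A)ˣ).val + ((qv : (L2 A)ˣ).val - 1) * ev scal zv k) := by
      have h4 := h3.isUnit
      rw [mul_one, show (1 : L2 A) + (ev scal zv k * ((qv : (L2 A)ˣ).val - 1) + ((zv : (L2 A)ˣ).val - 1)) =
        (zv : (L2 A)ˣ).val + ((qv : (L2 A)ˣ).val - 1) * ev scal zv k by ring] at h4
      exact h4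
    have h5 := sB w
    rw [hw, show (zv : (L2 A)ˣ).val + ((qv : (L2 A)ˣ).val - 1) * ev scal zv k - 1 =
      ev scal zv k * ((qv : (L2 A)ˣ).val - 1) + ((zv : (L2 A)ˣ).val - 1) by ring] at h5
    refine ⟨w, hw, ?_⟩
    have r1 := (h5.unique h3).1
    linear_combination (-(ev scal w k * ev scal zv k * ev scal qv k)) * r1 + (ev scal zv k * ev scal qv k) * eBk w -
      (ev scal w k) * (ev scal qv k * ev scal qv Bc) * eBk zv - ev scal w k * eBk qv
  obtain ⟨w, hw, wga, wτ, wg⟩ := addg
  have hlin := eq_lin_of_funEq h hhn ⟨w, hw, by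
    linear_combination (-(ev scal w h * ev scal zv h * ev scal qv h)) * wg + (ev scal zv h * ev scal qv h) * egh w -
      (ev scal w h) * (ev scal qv h * ev scal qv g) * egh zv - ev scal w h * egh qv⟩
  -- the infinitesimal point gives `h = T`
  have hhT : h = T 1 := by
    let u : (DualNumber A)ˣ := ⟨1 + DualNumber.eps, 1 - DualNumber.eps,
      by linear_combination -(DualNumber.eps_mul_eps : (DualNumber.eps : DualNumber A) * DualNumber.eps = 0),
      by linear_combination -(DualNumber.eps_mul_eps : (DualNumber.eps : DualNumber A) * DualNumber.eps = 0)⟩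
    have hbd : Spec.map (CommRingCat.ofHom (ev (dinl A) u)) ≫ tBase b = dBase b := tBase_ev (dinl A) rfl u
    have h1 := hg.map _ hbd
    rw [map_one, map_sub, map_one, ev_T, zpow_one, show ((u : (DualNumber A)ˣ) : DualNumber A) - 1 = DualNumber.eps by
      simp [u]] at h1
    obtain ⟨a, t, he⟩ := exists_ncrd_eps (D := D) (hnc := hnc) (b := b)
    have h2 := (h1.unique he).2.2
    have h3 := congrArg (ev (dinl A) u) hgh
    rw [map_mul, h2, map_one, hlin, ev_lin, show ((u : (DualNumber A)ˣ) : DualNumber A) - 1 = DualNumber.eps by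
      simp [u]] at h3
    have h4 := congrArg TrivSqZeroExt.snd h3
    simp [dinl] at h4
    have hc : h.coeff 1 = 1 := by linear_combination h4
    rw [hlin, hc, lin]
    simp
  have hwzq : w = zv * qv := Units.ext (by
    rw [hw, hhT, ev_T, zpow_one, Units.val_mul]
    ring)
  subst hwzq
  have hgT : g = T (-1) := by
    have h1 : g * T 1 = 1 := by rw [← hhT]; exact hgh
    calc g = g * (T 1 * T (-1)) := by rw [← LaurentPolynomial.T_add, add_neg_cancel, LaurentPolynomial.T_zero, mul_one]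
      _ = T (-1) := by rw [← mul_assoc, h1, one_mul]
  -- the second line: `(T - 1) Bc = ga`
  have hga : (T 1 - 1) * Bc = ga := by
    let C' := Localization.Away (T 1 - 1 : LaurentPolynomial A)
    let ι₀ : LaurentPolynomial A →+* C' := algebraMap _ _
    have hinj : Function.Injective ι₀ := IsLocalization.injective C' (Submonoid.powers_le.2
      (mem_nonZeroDivisors_iff_right.2 fun p hp => mul_T_sub_one_eq_zero hp))
    let bC : Spec (CommRingCat.of C') ⟶ S := Spec.map (CommRingCat.ofHom ι₀) ≫ tBase b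
    obtain ⟨l, hl⟩ : IsUnit (ι₀ (T 1 - 1)) := IsLocalization.Away.algebraMap_isUnit _
    have h1 := (hg.map ι₀ (b' := bC) rfl).homog l
    have h2 := hB.map ι₀ (b' := bC) rfl
    rw [map_one, mul_one, ← hl, Units.inv_mul] at h1
    rw [map_one, ← hl] at h2
    obtain ⟨r1, -, -⟩ := h2.unique h1
    refine hinj ?_
    rw [map_mul, ← hl, r1, Units.mul_inv_cancel_left]
  have hklin := eq_lin_of_funEq k hkn addB
  set c := k.coeff 1 with hc
  have hgak : ∀ x : (L2 A)ˣ, ev scal x ga * ev scal x k = (x : L2 A) - 1 := fun x => by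
    rw [← hga, map_mul, map_sub, map_one, ev_T, zpow_one, mul_assoc, eBk, mul_one]
  have hkx : ∀ x : (L2 A)ˣ, ev scal x k = 1 + scal c * ((x : L2 A) - 1) := fun x => by rw [hklin, ev_lin]
  set μ0 := (((D.cv (tBase b) τ)⁻¹ : (LaurentPolynomial A)ˣ) : LaurentPolynomial A) * T 1 with hμ0
  have hcvz : (((D.cv (zqBase b) (sh _ (hb2 zv) ≫ τ))⁻¹ : (L2 A)ˣ) : L2 A) * ev scal zv h =
      (C : LaurentPolynomial A →+* L2 A) μ0 := by
    rw [hhT, ev_zv, hμ0, map_mul]
    congr 1
    have e : D.cv (zqBase b) (sh _ (hb2 zv) ≫ τ) =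
        Units.map (ev scal (zv : (L2 A)ˣ)).toMonoidHom (D.cv (tBase b) τ) := Units.ext (D.cv_sh _ _ τ)
    rw [e, ← map_inv]
    exact ev_zv _
  set z : L2 A := (zv : (L2 A)ˣ).val with hz
  set q : L2 A := (qv : (L2 A)ˣ).val with hq
  have hzq : (((zv : (L2 A)ˣ) * qv : (L2 A)ˣ) : L2 A) = z * q := rfl
  have e1 : z * ev scal qv k = C μ0 * ev scal zv k * ev scal (zv * qv) k := by
    refine sub_eq_zero.1 (mul_T_sub_one_eq_zero ?_)
    have g1 := hgak (zv * qv)
    rw [hzq] at g1
    have g2 := hgak zv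
    have g3 := hgak qv
    have g4 : (z * q - 1) * ev scal zv k - (z - 1) * ev scal (zv * qv) k = z * (q - 1) := by
      rw [hkx, hkx, hzq]
      ring
    rw [show (T 1 : L2 A) = q from rfl]
    linear_combination (ev scal qv k * ev scal zv k * ev scal (zv * qv) k) * wga -
      ev scal qv k * g4 - (ev scal zv k * ev scal qv k) * g1 + (ev scal qv k * ev scal (zv * qv) k) * g2 +
      (ev scal zv k * ev scal (zv * qv) k) * C μ0 * g3 +
      (ev scal qv k * ev scal zv k * ev scal (zv * qv) k) * ev scal qv ga * hcvz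
  -- specialise `q = 1`
  have e2 : z = C μ0 * ev scal zv k * ev scal zv k := by
    let π : L2 A →+* L2 A := (C : LaurentPolynomial A →+* L2 A).comp
      (ev (RingHom.id (LaurentPolynomial A)) (1 : (LaurentPolynomial A)ˣ))
    have h1 := congrArg π e1
    have hπC : ∀ p, π (C p) = C p := fun p => by simp [π]
    have hπs : ∀ r, π (scal r) = scal r := fun r => hπC _
    have hπq : π q = 1 := by
      rw [hq, val_qv]
      simp [π]
    rw [hkx, hkx, hkx, hzq] at h1
    have hπq' : π ((qv : (L2 A)ˣ) : L2 A) = 1 := hπq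
    simp only [map_mul, map_add, map_sub, map_one, hπs, hπq, hπq', hπC, hz, val_zv] at h1
    rw [hkx, hz, val_zv]
    linear_combination h1
  have e3 : (scal c * scal c - scal c) * (z - 1) * (q - 1) = 0 := by
    have h3 : z * (ev scal zv k * ev scal qv k - ev scal (zv * qv) k) = 0 := by
      linear_combination ev scal zv k * e1 - ev scal (zv * qv) k * e2
    rw [hkx, hkx, hkx, hzq] at h3
    have h4 := (zv : (L2 A)ˣ).isUnit.mul_right_eq_zero.1 h3
    linear_combination h4
  have hcc : c = 1 := by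
    rw [hz, hq, val_zv, val_qv] at e3
    have h5 := mul_T_sub_one_eq_zero e3
    rw [show (scal c * scal c - scal c) * ((C (T 1) : L2 A) - 1) =
      (C : LaurentPolynomial A →+* L2 A) (C (c * c - c) * (T 1 - 1)) by simp [scal]] at h5
    have h6 : C (c * c - c) * (T 1 - 1) = (0 : LaurentPolynomial A) := C_inj (h5.trans (map_zero _).symm)
    have h7 : c * c - c = 0 := C_inj ((mul_T_sub_one_eq_zero h6).trans (map_zero _).symm)
    have hu : IsUnit c := by
      have hn := hkn 1
      simp only [AddMonoidAlgebra.coeff_sub, Finsupp.sub_apply, LaurentPolynomial.T_apply, if_true, ← hc] at hn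
      simpa using hn.isUnit_add_one
    exact hu.mul_left_cancel (by linear_combination h7)
  have hkT : k = T 1 := by
    rw [hklin, hcc, lin]
    simp
  have hBT : Bc = T (-1) := by
    have h1 : Bc * T 1 = 1 := by rw [← hkT]; exact hBk
    calc Bc = Bc * (T 1 * T (-1)) := by rw [← LaurentPolynomial.T_add, add_neg_cancel, LaurentPolynomial.T_zero, mul_one]
      _ = T (-1) := by rw [← mul_assoc, h1, one_mul]
  refine ⟨τ, ?_, ?_, fun _ _ _ => wτ⟩
  · rw [← hga, hBT, hgT] at hg
    exact hg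
  · rw [hkT, ev_T, zpow_one, hz, val_zv] at e2
    have h8 : (T 1 : LaurentPolynomial A) = μ0 * T 1 * T 1 := by
      refine C_inj (e2.trans ?_)
      simp only [map_mul]
    have hinv := (D.cv (tBase b) τ).mul_inv
    refine (LaurentPolynomial.isUnit_T (R := A) 1).mul_left_cancel ?_
    rw [hμ0] at h8
    linear_combination (D.cv (tBase b) τ : LaurentPolynomial A) * h8 + T 1 ^ 3 * hinv

/-- The coordinate of the universal point. -/
theorem exists_rule {z : Aˣ} {x y : A} (hz : (z : A) = 1 + x * y) :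
    ∃ τ : tst (tBase b) ⟶ T', D.NCrd hnc (tBase b) 1 (T 1 - 1) ((T 1 - 1) * T (-1)) τ (T (-1)) ∧
      ∀ h : Spec.map (CommRingCat.ofHom (ev (RingHom.id A) z)) ≫ tBase b = b,
        D.NCrd hnc b x y (((z⁻¹ : Aˣ) : A) * y) (sh _ h ≫ τ) (((z⁻¹ : Aˣ) : A) * x) := by
  obtain ⟨τ, hτ, -, -⟩ := universal_coords b (D := D) (hnc := hnc)
  refine ⟨τ, hτ, fun hev => ?_⟩
  obtain ⟨a, t, d, hc⟩ := exists_ncrd (D := D) (hnc := hnc) (b := b) (x := x) (y := y) (hz ▸ z.isUnit)
  -- universal in `x`
  let P : A[X] := 1 + Polynomial.C y * Polynomial.X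
  let C2 := Localization.Away P
  let C3 := Localization.Away (P * Polynomial.X)
  have hP0 : P.coeff 0 = 1 := by simp [P]
  have hnz : P * Polynomial.X ∈ nonZeroDivisors A[X] := by
    refine mul_mem ?_ ?_
    · refine Polynomial.mem_nonZeroDivisors_of_trailingCoeff ?_
      rcases subsingleton_or_nontrivial A with hA | hA
      · exact ⟨fun _ _ => Subsingleton.elim _ _, fun _ _ => Subsingleton.elim _ _⟩
      · rw [Polynomial.trailingCoeff, Polynomial.natTrailingDegree_eq_zero.2 (Or.inr (by rw [hP0]; exact one_ne_zero)), hP0]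
        exact one_mem _
    · exact mem_nonZeroDivisors_iff_right.2 fun p hp => by
        ext n
        simpa [Polynomial.coeff_mul_X] using congrArg (fun q => Polynomial.coeff q (n + 1)) hp
  let j2 : A[X] →+* C2 := algebraMap _ _
  let j3 : A[X] →+* C3 := algebraMap _ _
  have hj3 : Function.Injective j3 := IsLocalization.injective C3 (Submonoid.powers_le.2 hnz)
  have hu3 : IsUnit (j3 P) ∧ IsUnit (j3 Polynomial.X) := by
    have := IsLocalization.Away.algebraMap_isUnit (S := C3) (P * Polynomial.X)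
    rwa [map_mul, IsUnit.mul_iff] at this
  let ψ : C2 →+* C3 := IsLocalization.Away.lift P (g := j3) hu3.1
  have hψ : ∀ p, ψ (j2 p) = j3 p := fun p => IsLocalization.Away.lift_eq P hu3.1 p
  have hψi : Function.Injective ψ := by
    rw [injective_iff_map_eq_zero]
    intro e he
    obtain ⟨n, p, hp⟩ := IsLocalization.Away.surj P e
    have h1 := congrArg ψ hp
    rw [map_mul, he, zero_mul, hψ] at h1
    have hp0 : p = 0 := hj3 (h1.symm.trans (map_zero j3).symm)
    rw [hp0, map_zero] at hp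
    exact ((IsLocalization.Away.algebraMap_isUnit (S := C2) P).pow n).mul_left_eq_zero.1 hp
  let b2 : Spec (CommRingCat.of C2) ⟶ S :=
    Spec.map (CommRingCat.ofHom (j2.comp Polynomial.C)) ≫ b
  let b3 : Spec (CommRingCat.of C3) ⟶ S :=
    Spec.map (CommRingCat.ofHom (j3.comp Polynomial.C)) ≫ b
  have hb23 : Spec.map (CommRingCat.ofHom ψ) ≫ b2 = b3 := by
    simp only [b2, b3, ← Category.assoc, ← Spec.map_comp, ← CommRingCat.ofHom_comp, ← RingHom.comp_assoc]
    rw [show ψ.comp j2 = j3 from RingHom.ext hψ]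
  set X2 := j2 Polynomial.X with hX2
  set y2 := j2 (Polynomial.C y) with hy2
  obtain ⟨z2, hz2⟩ : IsUnit (1 + X2 * y2) := by
    rw [hX2, hy2, ← map_mul, ← map_one j2, ← map_add, mul_comm Polynomial.X]
    exact IsLocalization.Away.algebraMap_isUnit P
  obtain ⟨a2, t2, d2, h2⟩ := exists_ncrd (D := D) (hnc := hnc) (b := b2) (x := X2) (y := y2) (hz2 ▸ z2.isUnit)
  -- over the larger ring the abscissa is a unit
  obtain ⟨l, hl⟩ : IsUnit (ψ X2) := by rw [hψ]; exact hu3.2
  have hb3 : Spec.map (CommRingCat.ofHom (ev (ψ.comp (j2.comp Polynomial.C)) (Units.map ψ.toMonoidHom z2))) ≫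
      tBase b = b3 := tBase_ev _ (by
        rw [← RingHom.comp_assoc, show ψ.comp j2 = j3 from RingHom.ext hψ]) _
  have hu := (hτ.map _ hb3).homog l
  simp only [map_one, map_sub, map_mul, ev_T, zpow_neg_one, zpow_one, mul_one] at hu
  have hy3 : ((l⁻¹ : C3ˣ) : C3) * (((Units.map ψ.toMonoidHom z2 : C3ˣ) : C3) - 1) = ψ y2 := by
    show ((l⁻¹ : C3ˣ) : C3) * (ψ (z2 : C2) - 1) = ψ y2
    rw [hz2, map_add, map_one, map_mul, ← hl, add_sub_cancel_left, Units.inv_mul_cancel_left]
  rw [hy3, hl] at hu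
  obtain ⟨r1, r2, r3⟩ := (h2.map ψ hb23).unique hu
  have hzi : ψ (((z2⁻¹ : C2ˣ) : C2)) = (((Units.map ψ.toMonoidHom z2)⁻¹ : C3ˣ) : C3) := rfl
  rw [← mul_assoc, hy3, ← hzi, ← map_mul] at r1
  rw [← hzi, ← map_mul] at r3
  haveI := D.isAffineHom_T
  have hb2' : Spec.map (CommRingCat.ofHom (ev (j2.comp Polynomial.C) z2)) ≫ tBase b = b2 := tBase_ev _ rfl _
  have r2' : t2 = sh _ hb2' ≫ τ := RankOne.eq_of_injective (A := CommRingCat.of C2) (B := CommRingCat.of C3)
    ψ hb23 hψi (r2.trans (by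
      rw [← Category.assoc]
      congr 1
      ext1
      simp [specHom, ← Spec.map_comp, ← CommRingCat.ofHom_comp, comp_ev]))
  -- specialise
  let σ0 : A[X] →+* A := Polynomial.evalRingHom x
  have hσ0 : IsUnit (σ0 P) := by
    have e : σ0 P = 1 + x * y := by simp [σ0, P, mul_comm x y]
    rw [e, ← hz]
    exact z.isUnit
  let σ : C2 →+* A := IsLocalization.Away.lift P (g := σ0) hσ0
  have hσ : ∀ p, σ (j2 p) = σ0 p := fun p => IsLocalization.Away.lift_eq P hσ0 p
  have hbσ : Spec.map (CommRingCat.ofHom σ) ≫ b2 = b := by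
    simp only [b2, ← Category.assoc, ← Spec.map_comp, ← CommRingCat.ofHom_comp, ← RingHom.comp_assoc]
    rw [show σ.comp j2 = σ0 from RingHom.ext hσ, show σ0.comp Polynomial.C = RingHom.id A from
      RingHom.ext fun r => by simp [σ0]]
    simp
  have hσz : Units.map σ.toMonoidHom z2 = z := Units.ext (by
    show σ (z2 : C2) = z
    rw [hz2, map_add, map_one, map_mul, hX2, hy2, hσ, hσ, hz]
    simp [σ0])
  have h3 := h2.map σ hbσ
  have e1 := hψi r1
  have e3 := hψi r3
  rw [e1, e3, r2', map_mul, map_mul, hX2, hy2, hσ, hσ, show σ0 Polynomial.X = x by simp [σ0],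
    show σ0 (Polynomial.C y) = y by simp [σ0],
    show σ (((z2⁻¹ : C2ˣ) : C2)) = ((z⁻¹ : Aˣ) : A) by rw [← hσz]; rfl] at h3
  obtain ⟨q1, q2, q3⟩ := hc.unique h3
  subst q1 q2 q3
  have hpt : sh σ hbσ ≫ sh (ev (j2.comp Polynomial.C) z2) hb2' ≫ τ = sh (ev (RingHom.id A) z) hev ≫ τ := by
    rw [← Category.assoc]
    congr 1
    ext1
    simp [specHom, ← Spec.map_comp, ← CommRingCat.ofHom_comp, comp_ev, ← RingHom.comp_assoc,
      show σ.comp j2 = σ0 from RingHom.ext hσ, show σ0.comp Polynomial.C = RingHom.id A from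
        RingHom.ext fun r => by simp [σ0]]
    rw [show Units.map (σ : C2 →* A) z2 = z from hσz]
  rw [hpt, mul_comm y, mul_comm x] at hc
  exact hc

end RSys

end Groth.Agent.Red23Lib.Rule
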